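import Groth.Agent.Lib.Helper5.Tate.Laurent3

/-! Tate's residue on Laurent series equals `res (f g')`. -/

set_option autoImplicit false

namespace Tate.Laurent

open LaurentSeries HahnSeries LinearMap

variable {F : Type*} [Field F]

/-- Tate's local computation: the trace of `[π f, g]` on `F⸨X⸩` is the residue of `f dg`. -/
theorem fpTrace_Tfg_eq_res (f g : F⸨X⸩) :
    fpTrace (Tfg f g) = LocRes.res F (f * LocRes.D F g) := by
  obtain ⟨a, hf⟩ := exists_bound f
  obtain ⟨b, hg⟩ := exists_bound g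
  rw [fpTrace_Tfg_eq hf hg, LocRes.res_apply, mul_comm f]
  have hD : ∀ j : ℤ, j < -(b : ℤ) - 1 → (LocRes.D F g).coeff j = 0 := by
    intro j hj
    rw [LocRes.D_coeff, hg (j + 1) (by omega), smul_zero]
  rw [coeff_mul_eq_sum_Ico hD hf]
  have e1 : ∑ i ∈ Finset.Ico (-(b : ℤ) - 1) (-1 - -(a : ℤ) + 1),
      (LocRes.D F g).coeff i * f.coeff (-1 - i) =
      ∑ i ∈ Finset.Ico (-(b : ℤ)) ((a : ℤ) + 1), (i : F) * (g.coeff i * f.coeff (-i)) := by
    refine Finset.sum_nbij' (fun i => i + 1) (fun i => i - 1) ?_ ?_ ?_ ?_ ?_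
    · intro i hi
      rw [Finset.mem_Ico] at hi ⊢
      omega
    · intro i hi
      rw [Finset.mem_Ico] at hi ⊢
      omega
    · intro i _; ring
    · intro i _; ring
    · intro i _
      rw [LocRes.D_coeff, zsmul_eq_mul, mul_assoc]
      congr 3
      ring
  rw [e1]
  have hsub : Finset.Ico (-(b : ℤ)) ((a : ℤ) + 1) ⊆ Finset.Ico (-(b : ℤ)) ((a : ℤ) + b + 1) :=
    Finset.Ico_subset_Ico le_rfl (by omega)
  rw [← Finset.sum_subset hsub]
  intro i hi hni
  rw [Finset.mem_Ico] at hi hni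
  rw [hf (-i) (by omega), mul_zero, mul_zero]

end Tate.Laurent
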