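import Groth.Agent.Lib.Helper5.Tate.LocalGlobal
import Groth.Agent.Lib.Helper5.Tate.Laurent4

/-! Tate's local residue at a place equals the residue read through a Laurent expansion. -/

set_option autoImplicit false

namespace FunFld

open Tate Tate.Laurent LaurentSeries HahnSeries WithZero LinearMap

variable {k K F : Type*} [Field k] [Field K] [Algebra k K] [Field F] [Algebra k F]

/-- An expansion as a `k`-linear map (with the coefficientwise action on Laurent series). -/
noncomputable def expLin (φ : K →ₐ[k] F⸨X⸩) : K →ₗ[k] F⸨X⸩ where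
  toFun := φ
  map_add' := map_add φ
  map_smul' c x := by
    rw [RingHom.id_apply, Algebra.smul_def, map_mul, LocRes.map_algebraMap,
      HahnSeries.C_mul_eq_smul, algebraMap_smul]

@[simp] lemma expLin_apply (φ : K →ₐ[k] F⸨X⸩) (x : K) : expLin φ x = φ x := rfl

lemma expLin_injective (φ : K →ₐ[k] F⸨X⸩) : Function.Injective (expLin φ) :=
  φ.toRingHom.injective

lemma mem_Lplus_iff (x : F⸨X⸩) : x ∈ Lplus F ↔ Valued.v x ≤ (1 : ℤᵐ⁰) := by
  have := LaurentSeries.valuation_le_iff_coeff_lt_eq_zero F (D := 0) (f := x)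
  rw [neg_zero, exp_zero] at this
  rw [this]
  rfl

section approx

variable {P : Place k K} {φ : K →ₐ[k] F⸨X⸩} (hφ : LocRes.IsExpansionAt P.1 φ)

include hφ in
lemma exists_approx : ∀ (n : ℕ) (y : F⸨X⸩), Valued.v y ≤ exp (n : ℤ) →
    ∃ x : K, Valued.v (y - φ x) ≤ (1 : ℤᵐ⁰) := by
  intro n
  induction n with
  | zero =>
    intro y hy
    refine ⟨0, ?_⟩
    rw [map_zero, sub_zero]
    simpa using hy
  | succ n ih =>
    intro y hy
    obtain ⟨t', ht'⟩ := P.exists_v_eq ((n : ℤ) + 1)
    have hφt' : Valued.v (φ t') = exp ((n : ℤ) + 1) := by rw [hφ.1, ht']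
    have hφt'0 : φ t' ≠ 0 := by
      intro h0
      rw [h0, map_zero] at hφt'
      exact exp_ne_zero hφt'.symm
    set z := y * (φ t')⁻¹ with hz
    have hzv : Valued.v z ≤ (1 : ℤᵐ⁰) := by
      rw [hz, map_mul, map_inv₀, hφt']
      rw [← div_eq_mul_inv]
      apply div_le_one_of_le₀ _ zero_le
      push_cast at hy
      exact hy
    obtain ⟨u, hu1, hu2⟩ := hφ.2.1 (z.coeff 0)
    have hφu : Valued.v (φ u) ≤ (1 : ℤᵐ⁰) := by rw [hφ.1]; exact hu1
    have hzu : Valued.v (z - φ u) ≤ exp (-(1 : ℤ)) := by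
      rw [LaurentSeries.valuation_le_iff_coeff_lt_eq_zero F]
      intro m hm
      rw [HahnSeries.coeff_sub]
      by_cases h0 : m = 0
      · rw [h0, hu2, sub_self]
      · have hm' : m < 0 := by omega
        rw [(mem_Lplus_iff z).mpr hzv m hm', (mem_Lplus_iff (φ u)).mpr hφu m hm', sub_zero]
    have hy' : Valued.v (y - φ (u * t')) ≤ exp (n : ℤ) := by
      have e : y - φ (u * t') = φ t' * (z - φ u) := by
        rw [hz, map_mul]
        field_simp
      rw [e, map_mul, hφt']
      calc exp ((n : ℤ) + 1) * Valued.v (z - φ u) ≤ exp ((n : ℤ) + 1) * exp (-(1 : ℤ)) :=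
            mul_le_mul_right hzu _
        _ = exp (n : ℤ) := by rw [← exp_add]; congr 1; ring
    obtain ⟨x', hx'⟩ := ih _ hy'
    refine ⟨u * t' + x', ?_⟩
    have : y - φ (u * t' + x') = y - φ (u * t') - φ x' := by rw [map_add]; ring
    rw [this]
    exact hx'

include hφ in
/-- Density: every Laurent series is an expansion modulo `F⟦X⟧`. -/
lemma exists_sub_mem_Lplus (y : F⸨X⸩) : ∃ x : K, y - φ x ∈ Lplus F := by
  have : ∃ n : ℕ, Valued.v y ≤ exp (n : ℤ) := by
    rcases eq_or_ne y 0 with rfl | hy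
    · exact ⟨0, by simp⟩
    · have hv : Valued.v y ≠ 0 := (Valuation.ne_zero_iff _).mpr hy
      refine ⟨(log (Valued.v y)).toNat, ?_⟩
      rw [← exp_log hv]
      rw [exp_le_exp]
      exact Int.self_le_toNat _
  obtain ⟨n, hn⟩ := this
  obtain ⟨x, hx⟩ := exists_approx hφ n y hn
  exact ⟨x, (mem_Lplus_iff _).mpr hx⟩

end approx

end FunFld
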