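import Groth.Agent.Lib.Helper5.Tate.WeilDiff2

/-! The Weil differential attached to `u dv`: it is Weil, nonzero, with divisor `(u dv)`. -/

set_option autoImplicit false

namespace FunFld

open Tate Tate.Laurent LaurentSeries HahnSeries WithZero LinearMap
open scoped Classical

universe u v w

variable {k : Type u} {K : Type v} [Field k] [Field K] [Algebra k K]

variable (hK : IsFunctionField k K)
  (F : Place k K → Type w) [∀ P, Field (F P)] [∀ P, Algebra k (F P)]
  [∀ P, FiniteDimensional k (F P)]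
  (φ : ∀ P, K →ₐ[k] LaurentSeries (F P)) (hφ : ∀ P, LocRes.IsExpansionAt P.1 (φ P))
  (u v : K)

lemma vDiff_ne_zero (hu : u ≠ 0) {P : Place k K} (hv : LocRes.D (F P) (φ P v) ≠ 0) :
    LocRes.vDiff (φ P) u v ≠ 0 := by
  rw [LocRes.vDiff, Ne, map_eq_zero]
  apply mul_ne_zero _ hv
  rw [Ne, map_eq_zero]
  exact hu

lemma vDiff_eq_exp_neg_ordDiff {P : Place k K} (h0 : LocRes.vDiff (φ P) u v ≠ 0) :
    LocRes.vDiff (φ P) u v = exp (-(LocRes.ordDiff (φ P) u v)) := by
  rw [LocRes.ordDiff, neg_neg, exp_log h0]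

include hK hφ in
theorem omegaDiff_isWeil (hu : u ≠ 0) (hv : ∀ P, LocRes.D (F P) (φ P v) ≠ 0) :
    IsWeil (omegaDiff hK F φ hφ u v) := by
  have hfin : ({P : Place k K | ¬ P.1 u ≤ 1} ∪ {P : Place k K | ¬ P.1 v ≤ 1}).Finite :=
    (finite_not_le_one hK u).union (finite_not_le_one hK v)
  set S := hfin.toFinset with hS
  let D : Divisor k K := Finsupp.onFinset S
    (fun P => if P ∈ S then LocRes.ordDiff (φ P) u v else 0) (fun P hP => by
      by_contra h; exact hP (if_neg h))
  refine ⟨D, ?_⟩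
  rw [mem_WD]
  intro a ha
  obtain ⟨a', ha', _, ⟨x, rfl⟩, hax⟩ := Submodule.mem_sup.mp ha
  have ha'ad : a' ∈ adele k K := AD_le_adele D ha'
  have e : a = ⟨a', ha'ad⟩ + diagA hK x := by
    ext P
    exact (congrFun hax P).symm
  rw [e, map_add, omegaDiff_diag, add_zero, omegaDiff_apply]
  apply finsum_eq_zero_of_forall_eq_zero
  intro P
  apply locRes_eq_zero_of_le (hφ P)
  have haP : P.1 (a' P) ≤ exp (D P) := ha' P
  by_cases hPS : P ∈ S
  · have h0 := vDiff_ne_zero F φ u v hu (hv P)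
    have hDP : D P = LocRes.ordDiff (φ P) u v := by
      show (if P ∈ S then _ else _) = _
      rw [if_pos hPS]
    rw [vDiff_eq_exp_neg_ordDiff F φ u v h0]
    calc P.1 (a' P) * exp (-(LocRes.ordDiff (φ P) u v))
        ≤ exp (D P) * exp (-(LocRes.ordDiff (φ P) u v)) := mul_le_mul_left haP _
      _ = 1 := by rw [hDP, ← exp_add, add_neg_cancel, exp_zero]
  · have hDP : D P = 0 := by
      show (if P ∈ S then _ else _) = _
      rw [if_neg hPS]
    rw [hDP, exp_zero] at haP
    rw [hS, Set.Finite.mem_toFinset, Set.mem_union, not_or] at hPS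
    exact mul_le_one' haP (vDiff_le_one F φ hφ u v (not_not.mp hPS.1) (not_not.mp hPS.2))

include hK hφ in
/-- Local characterisation: the functional kills adeles concentrated at `P` of order `≥ -e`
exactly when `e ≤ ord_P(u dv)`. -/
theorem omegaDiff_local_iff
    (hnd : ∀ P (l : F P), l ≠ 0 → ∃ c : F P, Algebra.trace k (F P) (c * l) ≠ 0)
    (hu : u ≠ 0) (hv : ∀ P, LocRes.D (F P) (φ P v) ≠ 0) (P : Place k K) (e : ℤ) :
    (∀ (a : Place k K → K) (ha : a ∈ adele k K), (∀ Q, Q ≠ P → a Q = 0) → P.1 (a P) ≤ exp e →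
      omegaDiff hK F φ hφ u v ⟨a, ha⟩ = 0) ↔ e ≤ LocRes.ordDiff (φ P) u v := by
  have h0 := vDiff_ne_zero F φ u v hu (hv P)
  have hvd := vDiff_eq_exp_neg_ordDiff F φ u v h0
  constructor
  · intro h
    by_contra hlt
    rw [not_le] at hlt
    obtain ⟨y, hy1, hy2⟩ := exists_locRes_ne_zero (hφ P) (hnd P) u v h0
    apply hy2
    have hyle : P.1 y ≤ exp e := by
      rw [hvd] at hy1
      have : P.1 y ≤ exp (1 + LocRes.ordDiff (φ P) u v) := by
        have h1 : P.1 y = P.1 y * exp (-(LocRes.ordDiff (φ P) u v)) *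
            exp (LocRes.ordDiff (φ P) u v) := by
          rw [mul_assoc, ← exp_add, neg_add_cancel, exp_zero, mul_one]
        rw [h1, exp_add]
        exact mul_le_mul_left hy1 _
      exact this.trans (exp_le_exp.mpr (by omega))
    have hsing : ∀ Q, Q ≠ P → (Pi.single P y : Place k K → K) Q = 0 := fun Q hQ =>
      Pi.single_eq_of_ne (M := fun _ : Place k K => K) hQ y
    have hsame : (Pi.single P y : Place k K → K) P = y :=
      Pi.single_eq_same (M := fun _ : Place k K => K) P y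
    have := h (Pi.single P y) (single_mem_adele P y) hsing (by rw [hsame]; exact hyle)
    rw [omegaDiff_conc hK F φ hφ u v P _ hsing] at this
    rw [← this]
    show LocRes.locRes (φ P) (y * u) v = LocRes.locRes (φ P) ((Pi.single P y : Place k K → K) P * u) v
    rw [hsame]
  · intro he a ha hconc hP
    rw [omegaDiff_conc hK F φ hφ u v P _ hconc]
    apply locRes_eq_zero_of_le (hφ P)
    rw [hvd]
    calc P.1 (a P) * exp (-(LocRes.ordDiff (φ P) u v))
        ≤ exp e * exp (-(LocRes.ordDiff (φ P) u v)) := mul_le_mul_left hP _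
      _ ≤ 1 := by
        rw [← exp_add, ← exp_zero, exp_le_exp]
        omega

include hK hφ in
/-- The differential `u dv` gives a nonzero Weil differential whose divisor is `(u dv)`. -/
theorem omegaDiff_isDivOf
    (hnd : ∀ P (l : F P), l ≠ 0 → ∃ c : F P, Algebra.trace k (F P) (c * l) ≠ 0)
    (hu : u ≠ 0) (hv : ∀ P, LocRes.D (F P) (φ P v) ≠ 0) :
    omegaDiff hK F φ hφ u v ≠ 0 ∧
      (Function.support fun P => LocRes.ordDiff (φ P) u v).Finite ∧
      ∀ C : Divisor k K, (∀ P, C P = LocRes.ordDiff (φ P) u v) →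
        IsDivOf (omegaDiff hK F φ hφ u v) C := by
  have hne : omegaDiff hK F φ hφ u v ≠ 0 := by
    intro h
    obtain ⟨P⟩ := nonempty_place hK
    have := (omegaDiff_local_iff hK F φ hφ u v hnd hu hv P
      (LocRes.ordDiff (φ P) u v + 1)).mp (fun a ha _ _ => by rw [h]; rfl)
    omega
  obtain ⟨C₀, hC₀⟩ := exists_isDivOf hK (omegaDiff_isWeil hK F φ hφ u v hu hv) hne
  have hC₀P : ∀ P, C₀ P = LocRes.ordDiff (φ P) u v := by
    intro P
    apply le_antisymm
    · exact (omegaDiff_local_iff hK F φ hφ u v hnd hu hv P (C₀ P)).mp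
        ((le_isDivOf_apply_iff _ C₀ hC₀ P (C₀ P)).mp le_rfl)
    · exact (le_isDivOf_apply_iff _ C₀ hC₀ P _).mpr
        ((omegaDiff_local_iff hK F φ hφ u v hnd hu hv P _).mpr le_rfl)
  refine ⟨hne, ?_, ?_⟩
  · refine C₀.support.finite_toSet.subset ?_
    intro P hP
    rw [Function.mem_support, ← hC₀P] at hP
    exact Finsupp.mem_support_iff.mpr hP
  · intro C hC
    have : C = C₀ := by
      ext P
      rw [hC, hC₀P]
    rw [this]
    exact hC₀

end FunFld
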