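import Groth.Agent.Lib.Helper5.Tate.Global
import Groth.Agent.Lib.Helper5.FunFld.Adele2
import Groth.Agent.Lib.Helper5.FunFld.WeilLocal
import Groth.Agent.Lib.Helper5.FunFld.Degree

/-! Tate's residue on the adele space of a function field: global vanishing. -/

set_option autoImplicit false

namespace FunFld

open Tate WithZero LinearMap

variable {k K : Type*} [Field k] [Field K] [Algebra k K]

/-- A finite-dimensional supplement from a finite-dimensional relative quotient. -/
lemma exists_fd_le_sup {M : Type*} [AddCommGroup M] [Module k M] (U W : Submodule k M)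
    [FiniteDimensional k (RelQ U W)] :
    ∃ F : Submodule k M, FiniteDimensional k F ∧ F ≤ W ∧ W ≤ U ⊔ F := by
  set U' : Submodule k W := Submodule.comap W.subtype U with hU'
  obtain ⟨C, hC⟩ := Submodule.exists_isCompl U'
  have hCfin : FiniteDimensional k C :=
    Module.Finite.equiv (Submodule.quotientEquivOfIsCompl U' C hC)
  refine ⟨C.map W.subtype, inferInstance, ?_, ?_⟩
  · rintro _ ⟨c, _, rfl⟩
    exact c.2
  · intro w hw
    have : (⟨w, hw⟩ : W) ∈ U' ⊔ C := by rw [hC.sup_eq_top]; exact Submodule.mem_top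
    obtain ⟨u, hu, c, hc, huc⟩ := Submodule.mem_sup.mp this
    have : w = (u : M) + (c : M) := by
      have := congrArg Subtype.val huc
      simpa using this.symm
    rw [this]
    exact Submodule.add_mem _ (Submodule.mem_sup_left hu) (Submodule.mem_sup_right ⟨c, hc, rfl⟩)

/-- The valuation ring of a place as a `k`-subspace. -/
def Place.OSub (P : Place k K) : Submodule k K where
  carrier := {x | P.1 x ≤ 1}
  add_mem' := fun {x y} hx hy => (P.1.map_add x y).trans (max_le hx hy)
  zero_mem' := by simp
  smul_mem' := fun c x hx => (P.v_smul_le c x).trans hx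

lemma Place.mem_OSub {P : Place k K} {x : K} : x ∈ P.OSub ↔ P.1 x ≤ 1 := Iff.rfl

/-- Multiplication by `x` on `K`. -/
noncomputable def mulK (x : K) : K →ₗ[k] K := LinearMap.mulLeft k x

@[simp] lemma mulK_apply (x y : K) : mulK (k := k) x y = x * y := rfl

lemma mulK_comm (f g : K) : mulK (k := k) f ∘ₗ mulK g = mulK g ∘ₗ mulK f := by
  ext x
  simp only [LinearMap.comp_apply, mulK_apply]
  ring

section global

variable (hK : IsFunctionField k K)

/-- Multiplication by `x` on the adele space. -/
noncomputable def mulA (x : K) : adele k K →ₗ[k] adele k K :=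
  (x • (LinearMap.id : (Place k K → K) →ₗ[k] (Place k K → K))).restrict
    (fun a ha => by simpa using smul_mem_adele hK x a ha)

lemma mulA_apply (x : K) (a : adele k K) (P : Place k K) :
    (mulA hK x a : Place k K → K) P = x * (a : Place k K → K) P := rfl

lemma mulA_comm (f g : K) : mulA hK f ∘ₗ mulA hK g = mulA hK g ∘ₗ mulA hK f := by
  ext a P
  simp only [LinearMap.comp_apply, mulA_apply]
  ring

variable (k K) in
/-- The integral adeles. -/
def A0 : Submodule k (adele k K) := (AD 0).comap (adele k K).subtype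

lemma mem_A0 {a : adele k K} : a ∈ A0 k K ↔ ∀ P : Place k K, P.1 ((a : Place k K → K) P) ≤ 1 := by
  show (a : Place k K → K) ∈ AD 0 ↔ _
  rw [mem_AD]
  simp only [Finsupp.coe_zero, Pi.zero_apply, exp_zero]

/-- The diagonal embedding into the adele space. -/
noncomputable def diagA : K →ₗ[k] adele k K :=
  (diag k K).codRestrict (adele k K) (fun x => range_diag_le_adele hK ⟨x, rfl⟩)

lemma diagA_apply (x : K) (P : Place k K) : (diagA hK x : Place k K → K) P = x := rfl

/-- The principal adeles. -/
noncomputable def Kd : Submodule k (adele k K) := LinearMap.range (diagA hK)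

lemma Kd_stable (x : K) : (Kd hK).map (mulA hK x) ≤ Kd hK := by
  rintro _ ⟨_, ⟨y, rfl⟩, rfl⟩
  refine ⟨x * y, ?_⟩
  ext P
  rfl

instance finiteDimensional_A0_inf_Kd : FiniteDimensional k ↥(A0 k K ⊓ Kd hK) := by
  have hL := finiteDimensional_L hK (0 : Divisor k K)
  have hle : A0 k K ⊓ Kd hK ≤ (L (0 : Divisor k K)).map (diagA hK) := by
    rintro a ⟨ha, ⟨x, rfl⟩⟩
    refine ⟨x, ?_, rfl⟩
    intro P
    have := (mem_A0.mp ha) P
    simpa [diagA_apply] using this
  exact Submodule.finiteDimensional_of_le hle

lemma ADK_zero_le : ADK (0 : Divisor k K) ≤ A0 k K ⊔ Kd hK := by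
  intro a ha
  obtain ⟨a', ha', _, ⟨x, rfl⟩, hax⟩ := Submodule.mem_sup.mp ha
  have ha'ad : a' ∈ adele k K := AD_le_adele 0 ha'
  have : a = ⟨a', ha'ad⟩ + diagA hK x := by
    ext P
    have := congrFun hax P
    exact this.symm
  rw [this]
  exact Submodule.add_mem _ (Submodule.mem_sup_left ha') (Submodule.mem_sup_right ⟨x, rfl⟩)

instance finiteDimensional_quot : FiniteDimensional k (adele k K ⧸ (A0 k K ⊔ Kd hK)) := by
  have h1 := (relQ_adele hK (0 : Divisor k K)).1
  let q : (adele k K ⧸ ADK (0 : Divisor k K)) →ₗ[k] (adele k K ⧸ (A0 k K ⊔ Kd hK)) :=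
    Submodule.mapQ _ _ LinearMap.id (by
      rw [Submodule.comap_id]; exact ADK_zero_le hK)
  have hq : Function.Surjective q := by
    intro y
    induction y using Submodule.Quotient.induction_on with
    | H a => exact ⟨Submodule.Quotient.mk a, rfl⟩
  exact Module.Finite.of_surjective q hq

lemma nearStable_mulA (x : K) : NearStable (A0 k K) (mulA hK x) := by
  classical
  set D : Divisor k K := poleDiv x with hD
  have hD0 : (0 : Divisor k K) ≤ D := poleDiv_nonneg x
  have := (relQ_AD hK 0 D hD0).1
  obtain ⟨F₁, hF₁, hF₁le, hle⟩ := exists_fd_le_sup (AD (0 : Divisor k K)) (AD D)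
  have hF₁ad : F₁ ≤ adele k K := hF₁le.trans (AD_le_adele D)
  refine ⟨F₁.comap (adele k K).subtype, ?_, ?_⟩
  · exact Module.Finite.equiv (Submodule.comapSubtypeEquivOfLe hF₁ad).symm
  · rintro _ ⟨a, ha, rfl⟩
    have hmem : ((mulA hK x a : adele k K) : Place k K → K) ∈ AD D := by
      intro P
      rw [mulA_apply, map_mul]
      have h1 := (mem_A0.mp ha) P
      rcases eq_or_ne x 0 with rfl | hx
      · rw [map_zero, zero_mul]; exact zero_le
      · have h2 : P.1 x ≤ exp (D P) := by
          rw [P.v_le_exp_iff hx, hD, poleDiv_apply hK]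
          have := le_max_left (-P.ord x) 0
          omega
        calc P.1 x * P.1 ((a : Place k K → K) P) ≤ exp (D P) * 1 := mul_le_mul' h2 h1
          _ = exp (D P) := mul_one _
    obtain ⟨a₀, ha₀, φ, hφ, hsum⟩ := Submodule.mem_sup.mp (hle hmem)
    have ha₀ad : a₀ ∈ adele k K := AD_le_adele 0 ha₀
    have hφad : φ ∈ adele k K := hF₁ad hφ
    have : mulA hK x a = ⟨a₀, ha₀ad⟩ + ⟨φ, hφad⟩ := by
      ext P
      have := congrFun hsum P
      simpa using this.symm
    rw [this]
    exact Submodule.add_mem _ (Submodule.mem_sup_left ha₀) (Submodule.mem_sup_right hφ)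

/-- Global vanishing of Tate's residue on the adele space. -/
theorem tres_adele_eq_zero {π : adele k K →ₗ[k] adele k K} (hπ : IsProj (A0 k K) π) (f g : K) :
    tres π (mulA hK f) (mulA hK g) = 0 :=
  tres_eq_zero_of_finiteDimensional (B := Kd hK) hπ (mulA_comm hK f g) (nearStable_mulA hK f)
    (nearStable_mulA hK g) (Kd_stable hK f) (Kd_stable hK g)

end global

end FunFld
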