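import Groth.Agent.Lib.Helper5.Tate.FPTrace

/-! The finite-potent subspace `E₀(A)` of `End V` and linearity of the trace on it. -/

set_option autoImplicit false

namespace Tate

open LinearMap

variable {k : Type*} [Field k]
variable {V : Type*} [AddCommGroup V] [Module k V]

/-- `g A ≤ A + (finite-dimensional)`. -/
def NearStable (A : Submodule k V) (g : V →ₗ[k] V) : Prop :=
  ∃ F : Submodule k V, FiniteDimensional k F ∧ A.map g ≤ A ⊔ F

lemma NearStable.of_le {A : Submodule k V} {g : V →ₗ[k] V} (h : A.map g ≤ A) : NearStable A g :=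
  ⟨⊥, inferInstance, by simpa using h⟩

/-- Membership predicate of `E₀(A)`. -/
def IsE0 (A : Submodule k V) (θ : V →ₗ[k] V) : Prop :=
  (∃ F : Submodule k V, FiniteDimensional k F ∧ LinearMap.range θ ≤ A ⊔ F) ∧
    FiniteDimensional k (A.map θ)

lemma map_add_le (A : Submodule k V) (θ ρ : V →ₗ[k] V) :
    A.map (θ + ρ) ≤ A.map θ ⊔ A.map ρ := by
  rintro _ ⟨x, hx, rfl⟩
  rw [LinearMap.add_apply]
  exact Submodule.add_mem _ (Submodule.mem_sup_left ⟨x, hx, rfl⟩)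
    (Submodule.mem_sup_right ⟨x, hx, rfl⟩)

lemma map_smul_le (A : Submodule k V) (c : k) (θ : V →ₗ[k] V) :
    A.map (c • θ) ≤ A.map θ := by
  rintro _ ⟨x, hx, rfl⟩
  rw [LinearMap.smul_apply]
  exact Submodule.smul_mem _ _ ⟨x, hx, rfl⟩

lemma range_add_le (θ ρ : V →ₗ[k] V) : range (θ + ρ) ≤ range θ ⊔ range ρ := by
  rintro _ ⟨x, rfl⟩
  rw [LinearMap.add_apply]
  exact Submodule.add_mem _ (Submodule.mem_sup_left ⟨x, rfl⟩) (Submodule.mem_sup_right ⟨x, rfl⟩)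

lemma range_smul_le (c : k) (θ : V →ₗ[k] V) : range (c • θ) ≤ range θ := by
  rintro _ ⟨x, rfl⟩
  rw [LinearMap.smul_apply]
  exact Submodule.smul_mem _ _ ⟨x, rfl⟩

/-- `E₀(A)` as a subspace of `End V`. -/
def E0 (A : Submodule k V) : Submodule k (V →ₗ[k] V) where
  carrier := {θ | IsE0 A θ}
  zero_mem' := by
    refine ⟨⟨⊥, inferInstance, by simp⟩, ?_⟩
    have : A.map (0 : V →ₗ[k] V) = ⊥ := Submodule.map_zero _
    rw [this]; infer_instance
  add_mem' := by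
    rintro θ ρ ⟨⟨F₁, hF₁, h₁⟩, h₁'⟩ ⟨⟨F₂, hF₂, h₂⟩, h₂'⟩
    refine ⟨⟨F₁ ⊔ F₂, inferInstance, ?_⟩, ?_⟩
    · refine (range_add_le θ ρ).trans (sup_le (h₁.trans ?_) (h₂.trans ?_))
      · exact sup_le_sup_left le_sup_left _
      · exact sup_le_sup_left le_sup_right _
    · exact Submodule.finiteDimensional_of_le (map_add_le A θ ρ)
  smul_mem' := by
    rintro c θ ⟨⟨F₁, hF₁, h₁⟩, h₁'⟩
    exact ⟨⟨F₁, hF₁, (range_smul_le c θ).trans h₁⟩,
      Submodule.finiteDimensional_of_le (map_smul_le A c θ)⟩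

lemma mem_E0 {A : Submodule k V} {θ : V →ₗ[k] V} : θ ∈ E0 A ↔ IsE0 A θ := Iff.rfl

/-- Finite-rank maps are in `E₀(A)`. -/
lemma mem_E0_of_finiteDimensional_range {A : Submodule k V} {θ : V →ₗ[k] V}
    (h : FiniteDimensional k (range θ)) : θ ∈ E0 A := by
  refine ⟨⟨range θ, h, le_sup_right⟩, ?_⟩
  exact Submodule.finiteDimensional_of_le (LinearMap.map_le_range)

lemma E0_comp_right {A : Submodule k V} {θ h : V →ₗ[k] V} (hθ : θ ∈ E0 A)
    (hh : NearStable A h) : θ ∘ₗ h ∈ E0 A := by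
  obtain ⟨⟨F, hF, hr⟩, hm⟩ := hθ
  obtain ⟨G, hG, hAG⟩ := hh
  refine ⟨⟨F, hF, (LinearMap.range_comp_le_range h θ).trans hr⟩, ?_⟩
  have : A.map (θ ∘ₗ h) ≤ A.map θ ⊔ G.map θ := by
    rw [Submodule.map_comp, ← Submodule.map_sup]
    exact Submodule.map_mono hAG
  exact Submodule.finiteDimensional_of_le this

lemma E0_comp_left {A : Submodule k V} {θ h : V →ₗ[k] V} (hθ : θ ∈ E0 A)
    (hh : NearStable A h) : h ∘ₗ θ ∈ E0 A := by
  obtain ⟨⟨F, hF, hr⟩, hm⟩ := hθ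
  obtain ⟨G, hG, hAG⟩ := hh
  refine ⟨⟨G ⊔ F.map h, inferInstance, ?_⟩, ?_⟩
  · rw [LinearMap.range_comp]
    refine (Submodule.map_mono hr).trans ?_
    rw [Submodule.map_sup]
    refine sup_le (hAG.trans (sup_le_sup_left le_sup_left _)) ?_
    exact le_sup_of_le_right le_sup_right
  · rw [Submodule.map_comp]
    infer_instance

/-- A common core for all linear combinations of two elements of `E₀(A)`. -/
lemma exists_common_core {A : Submodule k V} {θ ρ : V →ₗ[k] V} (hθ : θ ∈ E0 A) (hρ : ρ ∈ E0 A) :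
    ∃ W : Submodule k V, ∀ c d : k, IsCore (c • θ + d • ρ) W := by
  obtain ⟨⟨F₁, hF₁, h₁⟩, h₁'⟩ := hθ
  obtain ⟨⟨F₂, hF₂, h₂⟩, h₂'⟩ := hρ
  set F := F₁ ⊔ F₂ with hF
  have hθr : range θ ≤ A ⊔ F := h₁.trans (sup_le_sup_left le_sup_left _)
  have hρr : range ρ ≤ A ⊔ F := h₂.trans (sup_le_sup_left le_sup_right _)
  set W := (A ⊔ F).map θ ⊔ (A ⊔ F).map ρ with hW
  have hWle : W ≤ A ⊔ F :=
    sup_le ((LinearMap.map_le_range).trans hθr) ((LinearMap.map_le_range).trans hρr)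
  have hfin : FiniteDimensional k W := by
    have e1 : FiniteDimensional k ((A ⊔ F).map θ) := by
      rw [Submodule.map_sup]; infer_instance
    have e2 : FiniteDimensional k ((A ⊔ F).map ρ) := by
      rw [Submodule.map_sup]; infer_instance
    rw [hW]
    infer_instance
  refine ⟨W, fun c d => ⟨hfin, ?_, ⟨2, ?_⟩⟩⟩
  · intro x hx
    have hx' := hWle hx
    rw [LinearMap.add_apply, LinearMap.smul_apply, LinearMap.smul_apply]
    exact Submodule.add_mem _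
      (Submodule.smul_mem _ _ (Submodule.mem_sup_left ⟨x, hx', rfl⟩))
      (Submodule.smul_mem _ _ (Submodule.mem_sup_right ⟨x, hx', rfl⟩))
  · rintro _ ⟨x, rfl⟩
    rw [pow_two, Module.End.mul_apply]
    set y := (c • θ + d • ρ) x with hy
    have hyAF : y ∈ A ⊔ F := by
      rw [hy, LinearMap.add_apply, LinearMap.smul_apply, LinearMap.smul_apply]
      exact Submodule.add_mem _ (Submodule.smul_mem _ _ (hθr ⟨x, rfl⟩))
        (Submodule.smul_mem _ _ (hρr ⟨x, rfl⟩))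
    rw [LinearMap.add_apply, LinearMap.smul_apply, LinearMap.smul_apply]
    exact Submodule.add_mem _
      (Submodule.smul_mem _ _ (Submodule.mem_sup_left ⟨y, hyAF, rfl⟩))
      (Submodule.smul_mem _ _ (Submodule.mem_sup_right ⟨y, hyAF, rfl⟩))

lemma isFP_of_mem_E0 {A : Submodule k V} {θ : V →ₗ[k] V} (hθ : θ ∈ E0 A) : IsFP θ := by
  obtain ⟨W, hW⟩ := exists_common_core hθ hθ
  have := hW 1 0
  simp only [one_smul, zero_smul, add_zero] at this
  exact ⟨W, this⟩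

lemma fpTrace_add_of_mem_E0 {A : Submodule k V} {θ ρ : V →ₗ[k] V} (hθ : θ ∈ E0 A)
    (hρ : ρ ∈ E0 A) : fpTrace (θ + ρ) = fpTrace θ + fpTrace ρ := by
  obtain ⟨W, hW⟩ := exists_common_core hθ hρ
  have h1 : IsCore θ W := by simpa using hW 1 0
  have h2 : IsCore ρ W := by simpa using hW 0 1
  have h3 : IsCore (θ + ρ) W := by simpa using hW 1 1
  rw [fpTrace_eq h1, fpTrace_eq h2, fpTrace_eq h3, ← map_add]
  congr 1

lemma fpTrace_smul_of_mem_E0 {A : Submodule k V} {θ : V →ₗ[k] V} (hθ : θ ∈ E0 A) (c : k) :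
    fpTrace (c • θ) = c • fpTrace θ := by
  obtain ⟨W, hW⟩ := exists_common_core hθ hθ
  have h1 : IsCore θ W := by simpa using hW 1 0
  have h2 : IsCore (c • θ) W := by simpa using hW c 0
  rw [fpTrace_eq h1, fpTrace_eq h2, ← map_smul]
  congr 1

/-- The trace as a linear functional on `E₀(A)`. -/
noncomputable def trE0 (A : Submodule k V) : E0 A →ₗ[k] k where
  toFun θ := fpTrace θ.1
  map_add' θ ρ := fpTrace_add_of_mem_E0 θ.2 ρ.2
  map_smul' c θ := fpTrace_smul_of_mem_E0 θ.2 c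

lemma fpTrace_sub_of_mem_E0 {A : Submodule k V} {θ ρ : V →ₗ[k] V} (hθ : θ ∈ E0 A)
    (hρ : ρ ∈ E0 A) : fpTrace (θ - ρ) = fpTrace θ - fpTrace ρ :=
  map_sub (trE0 A) ⟨θ, hθ⟩ ⟨ρ, hρ⟩

lemma fpTrace_sum_of_mem_E0 {A : Submodule k V} {ι : Type*} (s : Finset ι) (θ : ι → V →ₗ[k] V)
    (hθ : ∀ i ∈ s, θ i ∈ E0 A) : fpTrace (∑ i ∈ s, θ i) = ∑ i ∈ s, fpTrace (θ i) := by
  classical
  induction s using Finset.induction_on with
  | empty =>
    rw [Finset.sum_empty, Finset.sum_empty]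
    exact map_zero (trE0 A)
  | insert i s hi ih =>
    rw [Finset.sum_insert hi, Finset.sum_insert hi,
      fpTrace_add_of_mem_E0 (hθ i (Finset.mem_insert_self i s))
        (Submodule.sum_mem _ fun j hj => hθ j (Finset.mem_insert_of_mem hj)),
      ih fun j hj => hθ j (Finset.mem_insert_of_mem hj)]

/-- `E₀` is monotone for commensurable subspaces `A' ≤ A ≤ A' + F₀`. -/
lemma E0_le_of_commensurable {A A' : Submodule k V} (hle : A' ≤ A) {F₀ : Submodule k V}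
    [FiniteDimensional k F₀] (hA : A ≤ A' ⊔ F₀) : E0 A' ≤ E0 A := by
  rintro θ ⟨⟨F, hF, hr⟩, hm⟩
  refine ⟨⟨F, hF, hr.trans (sup_le_sup_right hle _)⟩, ?_⟩
  have : A.map θ ≤ A'.map θ ⊔ F₀.map θ := by
    rw [← Submodule.map_sup]; exact Submodule.map_mono hA
  exact Submodule.finiteDimensional_of_le this

end Tate
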