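import Groth.Agent.Lib.Helper5.Tate.Expansion

/-! Tate's local residue at a place equals the residue read through a Laurent expansion. -/

set_option autoImplicit false

namespace FunFld

open Tate Tate.Laurent LaurentSeries HahnSeries WithZero LinearMap

variable {k K F : Type*} [Field k] [Field K] [Algebra k K] [Field F] [Algebra k F]

variable (k) in
/-- `F⟦X⟧` as a `k`-subspace. -/
def Lk (F : Type*) [Field F] [Algebra k F] : Submodule k F⸨X⸩ := (Lplus F).restrictScalars k

variable (k) in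
/-- Multiplication on Laurent series as a `k`-linear map. -/
noncomputable def mulLk (h : F⸨X⸩) : F⸨X⸩ →ₗ[k] F⸨X⸩ := (mulL h).restrictScalars k

lemma mulLk_apply (h x : F⸨X⸩) : mulLk k h x = h * x := rfl

lemma mulLk_comm (f g : F⸨X⸩) : mulLk k f ∘ₗ mulLk k g = mulLk k g ∘ₗ mulLk k f := by
  ext x
  simp only [LinearMap.comp_apply, mulLk_apply]
  ring_nf

lemma nearStable_mulLk [FiniteDimensional k F] (h : F⸨X⸩) : NearStable (Lk k F) (mulLk k h) := by
  obtain ⟨F₀, hF₀, hle⟩ := nearStable_mulL h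
  refine ⟨F₀.restrictScalars k, ?_, ?_⟩
  · have h1 : FiniteDimensional k F₀ := Module.Finite.trans F F₀
    exact Module.Finite.equiv
      ((Submodule.restrictScalarsEquiv k F F⸨X⸩ F₀).restrictScalars k).symm
  · rintro _ ⟨x, hx, rfl⟩
    have : mulL h x ∈ Lplus F ⊔ F₀ := hle ⟨x, hx, rfl⟩
    obtain ⟨a, ha, b, hb, hab⟩ := Submodule.mem_sup.mp this
    have e : mulLk k h x = a + b := hab.symm
    rw [e]
    exact Submodule.add_mem _ (Submodule.mem_sup_left ha) (Submodule.mem_sup_right hb)

lemma isProj_trunc_k : IsProj (Lk k F) ((trunc F).restrictScalars k) where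
  map_mem x := isProj_trunc.map_mem x
  map_id x hx := isProj_trunc.map_id x hx

/-- Tate's local residue equals the residue read through an expansion. -/
theorem local_tres_eq_locRes [FiniteDimensional k F] {P : Place k K} {φ : K →ₐ[k] F⸨X⸩}
    (hφ : LocRes.IsExpansionAt P.1 φ) {πP : K →ₗ[k] K} (hπP : IsProj P.OSub πP) (f g : K) :
    tres πP (mulK f) (mulK g) = LocRes.locRes φ f g := by
  set φₗ := expLin φ with hφₗ
  set C : Submodule k K := LinearMap.ker πP with hC
  set C_L : Submodule k F⸨X⸩ := C.map φₗ with hC_L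
  have hidem : ∀ x, πP (πP x) = πP x := fun x => hπP.map_id _ (hπP.map_mem x)
  have hcompl : IsCompl (Lk k F) C_L := by
    constructor
    · rw [disjoint_iff, eq_bot_iff]
      rintro y ⟨hy1, ⟨c, hc, rfl⟩⟩
      have hc1 : P.1 c ≤ 1 := by
        have := (mem_Lplus_iff (φ c)).mp hy1
        rwa [hφ.1] at this
      have hc0 : c = 0 := by
        have h1 := hπP.map_id c hc1
        have h2 : πP c = 0 := hc
        rw [← h1, h2]
      show φₗ c ∈ (⊥ : Submodule k F⸨X⸩)
      rw [hc0, map_zero]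
      exact Submodule.zero_mem _
    · rw [codisjoint_iff, eq_top_iff]
      intro y _
      obtain ⟨x, hx⟩ := exists_sub_mem_Lplus hφ y
      have e : y = (y - φ x + φ (πP x)) + φₗ (x - πP x) := by
        rw [hφₗ, expLin_apply, map_sub]; ring
      rw [e]
      refine Submodule.add_mem _ (Submodule.mem_sup_left ?_) (Submodule.mem_sup_right ?_)
      · refine Submodule.add_mem _ hx ?_
        show φ (πP x) ∈ Lplus F
        rw [mem_Lplus_iff, hφ.1]
        exact hπP.map_mem x
      · refine ⟨x - πP x, ?_, rfl⟩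
        show πP (x - πP x) = 0
        rw [map_sub, hidem, sub_self]
  set π_L := (Lk k F).projection C_L hcompl with hπ_L
  have hπ_Lproj : IsProj (Lk k F) π_L := isProj_projection hcompl
  have hker : ∀ c ∈ C_L, π_L c = 0 := fun c hc =>
    (Submodule.projection_apply_eq_zero_iff hcompl).mpr hc
  have hπφ : φₗ ∘ₗ πP = π_L ∘ₗ φₗ := by
    ext x
    rw [LinearMap.comp_apply, LinearMap.comp_apply]
    have e : φₗ x = φₗ (πP x) + φₗ (x - πP x) := by rw [← map_add]; congr 1; ring
    have h1 : φₗ (πP x) ∈ Lk k F := by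
      show φ (πP x) ∈ Lplus F
      rw [mem_Lplus_iff, hφ.1]
      exact hπP.map_mem x
    have h2 : φₗ (x - πP x) ∈ C_L := by
      refine ⟨x - πP x, ?_, rfl⟩
      show πP (x - πP x) = 0
      rw [map_sub, hidem, sub_self]
    rw [e, map_add, hπ_Lproj.map_id _ h1, hker _ h2, add_zero]
  have hfφ : ∀ h : K, φₗ ∘ₗ mulK h = mulLk k (φ h) ∘ₗ φₗ := by
    intro h
    ext x
    simp only [LinearMap.comp_apply, mulK_apply, mulLk_apply, hφₗ, expLin_apply, map_mul]
  have hdense : ∀ y, y - π_L y ∈ LinearMap.range φₗ := by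
    intro y
    have := Submodule.sub_projection_mem hcompl y
    obtain ⟨c, _, hc⟩ := this
    exact ⟨c, hc⟩
  rw [tres_transfer φₗ (expLin_injective φ) hπ_Lproj (mulLk_comm (φ f) (φ g))
    (nearStable_mulLk (φ f)) (nearStable_mulLk (φ g)) hπφ (hfφ f) (hfφ g) hdense,
    tres_eq_of_isProj hπ_Lproj isProj_trunc_k (mulLk_comm (φ f) (φ g))
      (nearStable_mulLk (φ f)) (nearStable_mulLk (φ g))]
  have e : comm ((trunc F).restrictScalars k) (mulLk k (φ f)) (mulLk k (φ g)) =
      (Tfg (φ f) (φ g)).restrictScalars k := rfl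
  rw [tres, e, fpTrace_restrictScalars k F _ (isFP_of_mem_E0 (Tfg_mem_E0 _ _)),
    fpTrace_Tfg_eq_res]
  rfl

end FunFld
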