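import Mathlib

/-! Traces of finite-potent endomorphisms (Tate). -/

set_option autoImplicit false

namespace Tate

open LinearMap

variable {k : Type*} [Field k]
variable {V : Type*} [AddCommGroup V] [Module k V]
variable {V' : Type*} [AddCommGroup V'] [Module k V']

/-- `W` is a core for `T`: finite-dimensional, `T`-invariant, containing the range of a power. -/
structure IsCore (T : V →ₗ[k] V) (W : Submodule k V) : Prop where
  fin : FiniteDimensional k W
  inv : ∀ x ∈ W, T x ∈ W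
  pow : ∃ n : ℕ, LinearMap.range (T ^ n) ≤ W

/-- `T` is finite-potent. -/
def IsFP (T : V →ₗ[k] V) : Prop := ∃ W, IsCore T W

open Classical in
/-- The trace of a finite-potent endomorphism (`0` if not finite-potent). -/
noncomputable def fpTrace (T : V →ₗ[k] V) : k :=
  if h : ∃ W, IsCore T W then LinearMap.trace k h.choose (T.restrict h.choose_spec.inv) else 0

/-- One-step comparison of traces on invariant subspaces. -/
lemma trace_restrict_step (T : V →ₗ[k] V) {W W' : Submodule k V} [FiniteDimensional k W]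
    (hle : W' ≤ W) (hW : ∀ x ∈ W, T x ∈ W) (hW' : ∀ x ∈ W', T x ∈ W')
    (h : ∀ x ∈ W, T x ∈ W') :
    LinearMap.trace k W (T.restrict hW) = LinearMap.trace k W' (T.restrict hW') := by
  have : FiniteDimensional k W' := Submodule.finiteDimensional_of_le hle
  let ι : W' →ₗ[k] W := Submodule.inclusion hle
  let T₁ : W →ₗ[k] W' := (T.domRestrict W).codRestrict W' (fun x => h x.1 x.2)
  have e1 : T.restrict hW = ι ∘ₗ T₁ := by
    ext x; rfl
  have e2 : T.restrict hW' = T₁ ∘ₗ ι := by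
    ext x; rfl
  rw [e1, e2, LinearMap.trace_comp_comm']

lemma map_pow_le_of_inv (T : V →ₗ[k] V) {W : Submodule k V} (hW : ∀ x ∈ W, T x ∈ W) (n : ℕ) :
    ∀ x ∈ W, (T ^ n) x ∈ W := by
  induction n with
  | zero => intro x hx; simpa using hx
  | succ n ih =>
    intro x hx
    rw [pow_succ', Module.End.mul_apply]
    exact hW _ (ih x hx)

/-- Comparison of traces on invariant subspaces `W' ≤ W` with `T^n W ≤ W'`. -/
lemma trace_restrict_of_pow (T : V →ₗ[k] V) (n : ℕ) :
    ∀ {W W' : Submodule k V} [FiniteDimensional k W]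
    (_hle : W' ≤ W) (hW : ∀ x ∈ W, T x ∈ W) (hW' : ∀ x ∈ W', T x ∈ W')
    (_h : ∀ x ∈ W, (T ^ n) x ∈ W'),
    LinearMap.trace k W (T.restrict hW) = LinearMap.trace k W' (T.restrict hW') := by
  induction n with
  | zero =>
    intro W W' _ hle hW hW' h
    have : W = W' := le_antisymm (fun x hx => by simpa using h x hx) hle
    subst this
    rfl
  | succ n ih =>
    intro W W' _ hle hW hW' h
    set W₁ : Submodule k V := W' ⊔ Submodule.map T W with hW₁
    have hW₁le : W₁ ≤ W := sup_le hle (by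
      rintro _ ⟨x, hx, rfl⟩; exact hW x hx)
    have hW₁inv : ∀ x ∈ W₁, T x ∈ W₁ := by
      intro x hx
      obtain ⟨a, ha, b, hb, rfl⟩ := Submodule.mem_sup.mp hx
      rw [map_add]
      refine Submodule.add_mem _ (Submodule.mem_sup_left (hW' a ha)) (Submodule.mem_sup_right ?_)
      exact ⟨b, hW₁le (Submodule.mem_sup_right hb), rfl⟩
    have hstep : ∀ x ∈ W, T x ∈ W₁ := fun x hx => Submodule.mem_sup_right ⟨x, hx, rfl⟩
    have hfin₁ : FiniteDimensional k W₁ := Submodule.finiteDimensional_of_le hW₁le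
    rw [trace_restrict_step T hW₁le hW hW₁inv hstep]
    apply ih (le_sup_left) hW₁inv hW'
    intro x hx
    obtain ⟨a, ha, b, hb, rfl⟩ := Submodule.mem_sup.mp hx
    rw [map_add]
    refine Submodule.add_mem _ (map_pow_le_of_inv T hW' n a ha) ?_
    obtain ⟨c, hc, rfl⟩ := hb
    have := h c hc
    rwa [pow_succ, Module.End.mul_apply] at this

/-- The trace on any two cores agree. -/
lemma IsCore.trace_eq {T : V →ₗ[k] V} {W₁ W₂ : Submodule k V} (h₁ : IsCore T W₁)
    (h₂ : IsCore T W₂) :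
    LinearMap.trace k W₁ (T.restrict h₁.inv) = LinearMap.trace k W₂ (T.restrict h₂.inv) := by
  have hinv : ∀ x ∈ W₁ ⊓ W₂, T x ∈ W₁ ⊓ W₂ := fun x hx => ⟨h₁.inv x hx.1, h₂.inv x hx.2⟩
  obtain ⟨n₁, hn₁⟩ := h₁.pow
  obtain ⟨n₂, hn₂⟩ := h₂.pow
  have := h₁.fin
  have := h₂.fin
  have e1 : LinearMap.trace k W₁ (T.restrict h₁.inv) =
      LinearMap.trace k (W₁ ⊓ W₂ : Submodule k V) (T.restrict hinv) :=
    trace_restrict_of_pow T n₂ inf_le_left h₁.inv hinv
      (fun x hx => ⟨map_pow_le_of_inv T h₁.inv n₂ x hx, hn₂ ⟨x, rfl⟩⟩)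
  have e2 : LinearMap.trace k W₂ (T.restrict h₂.inv) =
      LinearMap.trace k (W₁ ⊓ W₂ : Submodule k V) (T.restrict hinv) :=
    trace_restrict_of_pow T n₁ inf_le_right h₂.inv hinv
      (fun x hx => ⟨hn₁ ⟨x, rfl⟩, map_pow_le_of_inv T h₂.inv n₁ x hx⟩)
  rw [e1, e2]

lemma fpTrace_eq {T : V →ₗ[k] V} {W : Submodule k V} (hW : IsCore T W) :
    fpTrace T = LinearMap.trace k W (T.restrict hW.inv) := by
  have h : ∃ W, IsCore T W := ⟨W, hW⟩
  rw [fpTrace, dif_pos h]
  exact IsCore.trace_eq h.choose_spec hW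

/-- A nilpotent endomorphism has trace zero. -/
lemma fpTrace_eq_zero_of_pow_eq_zero {T : V →ₗ[k] V} {n : ℕ} (h : T ^ n = 0) : fpTrace T = 0 := by
  have hcore : IsCore T ⊥ :=
    { fin := inferInstance
      inv := fun x hx => by rw [(Submodule.mem_bot k).mp hx, map_zero]; exact Submodule.zero_mem _
      pow := ⟨n, by rw [h, LinearMap.range_zero]⟩ }
  rw [fpTrace_eq hcore]
  have : Subsingleton ((⊥ : Submodule k V) →ₗ[k] (⊥ : Submodule k V)) :=
    ⟨fun a b => LinearMap.ext fun x => Subsingleton.elim _ _⟩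
  rw [Subsingleton.elim (T.restrict hcore.inv) 0, map_zero]

/-- On a finite-dimensional space, the finite-potent trace is the trace. -/
lemma fpTrace_eq_trace [FiniteDimensional k V] (T : V →ₗ[k] V) :
    fpTrace T = LinearMap.trace k V T := by
  have hcore : IsCore T ⊤ :=
    { fin := inferInstance
      inv := fun _ _ => Submodule.mem_top
      pow := ⟨0, le_top⟩ }
  rw [fpTrace_eq hcore]
  have e : T.restrict hcore.inv =
      (LinearEquiv.ofTop (⊤ : Submodule k V) rfl).symm.conj T := by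
    ext x
    simp [LinearEquiv.conj_apply]
  rw [e, LinearMap.trace_conj']

lemma comp_pow_succ (a : V →ₗ[k] V') (b : V' →ₗ[k] V) (n : ℕ) :
    (b ∘ₗ a) ^ (n + 1) = b ∘ₗ ((a ∘ₗ b) ^ n) ∘ₗ a := by
  induction n with
  | zero => ext x; simp
  | succ n ih =>
    rw [pow_succ, ih]
    ext x
    simp only [Module.End.mul_apply, LinearMap.comp_apply]
    rw [pow_succ, Module.End.mul_apply]
    rfl

/-- Core of `b ∘ a` from a core of `a ∘ b`. -/
lemma IsCore.map_comp {a : V →ₗ[k] V'} {b : V' →ₗ[k] V} {W : Submodule k V'}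
    (hW : IsCore (a ∘ₗ b) W) : IsCore (b ∘ₗ a) (W.map b) := by
  have := hW.fin
  refine ⟨inferInstance, ?_, ?_⟩
  · rintro _ ⟨w, hw, rfl⟩
    exact ⟨a (b w), hW.inv w hw, rfl⟩
  · obtain ⟨n, hn⟩ := hW.pow
    refine ⟨n + 1, ?_⟩
    rw [comp_pow_succ]
    rintro _ ⟨x, rfl⟩
    exact ⟨((a ∘ₗ b) ^ n) (a x), hn ⟨a x, rfl⟩, rfl⟩

lemma IsFP.comp_comm {a : V →ₗ[k] V'} {b : V' →ₗ[k] V} (h : IsFP (a ∘ₗ b)) : IsFP (b ∘ₗ a) := by
  obtain ⟨W, hW⟩ := h
  exact ⟨_, hW.map_comp⟩

/-- Cyclicity of the finite-potent trace. -/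
theorem fpTrace_comp_comm (a : V →ₗ[k] V') (b : V' →ₗ[k] V) (h : IsFP (a ∘ₗ b)) :
    fpTrace (a ∘ₗ b) = fpTrace (b ∘ₗ a) := by
  obtain ⟨W, hW⟩ := h
  have hW' := hW.map_comp
  have := hW.fin
  have := hW'.fin
  rw [fpTrace_eq hW, fpTrace_eq hW']
  let b' : W →ₗ[k] W.map b := (b.domRestrict W).codRestrict (W.map b) (fun x => ⟨x.1, x.2, rfl⟩)
  let a' : W.map b →ₗ[k] W := (a.domRestrict (W.map b)).codRestrict W (fun x => by
    obtain ⟨w, hw, hx⟩ := x.2
    show a x.1 ∈ W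
    rw [← hx]
    exact hW.inv w hw)
  have e1 : (a ∘ₗ b).restrict hW.inv = a' ∘ₗ b' := by ext x; rfl
  have e2 : (b ∘ₗ a).restrict hW'.inv = b' ∘ₗ a' := by ext x; rfl
  rw [e1, e2, LinearMap.trace_comp_comm']

end Tate
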