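import Groth.Agent.Lib.Helper5.Tate.Res

/-! Tate's abstract global vanishing: `res^V_A = 0` if `A ∩ B`, `V/(A+B)` are finite-dimensional
for a stable subspace `B`. -/

set_option autoImplicit false

namespace Tate

open LinearMap

variable {k : Type*} [Field k]
variable {V : Type*} [AddCommGroup V] [Module k V]

lemma isProj_projection {p q : Submodule k V} (hpq : IsCompl p q) :
    IsProj p (p.projection q hpq) where
  map_mem x := Submodule.projection_apply_mem hpq x
  map_id x hx := by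
    have := Submodule.projection_apply_left hpq ⟨x, hx⟩
    simpa using this

lemma exists_isProj (A : Submodule k V) : ∃ π : V →ₗ[k] V, IsProj A π := by
  obtain ⟨q, hq⟩ := Submodule.exists_isCompl A
  exact ⟨_, isProj_projection hq⟩

lemma NearStable.to_commensurable {A A' : Submodule k V} (hle : A' ≤ A) {F₀ : Submodule k V}
    [FiniteDimensional k F₀] (hA : A ≤ A' ⊔ F₀) {f : V →ₗ[k] V} (hf : NearStable A' f) :
    NearStable A f := by
  obtain ⟨F, hF, h⟩ := hf
  refine ⟨F ⊔ F₀.map f, inferInstance, ?_⟩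
  refine (Submodule.map_mono hA).trans ?_
  rw [Submodule.map_sup]
  refine sup_le (h.trans ?_) ?_
  · exact sup_le_sup hle le_sup_left
  · exact le_sup_of_le_right le_sup_right

theorem tres_eq_zero_of_isCompl {A B : Submodule k V} {f g : V →ₗ[k] V} (hAB : IsCompl A B)
    (hfg : f ∘ₗ g = g ∘ₗ f) (hfB : B.map f ≤ B) (hgB : B.map g ≤ B) :
    tres (A.projection B hAB) f g = 0 := by
  set π := A.projection B hAB with hπ
  have hB : ∀ x, x - π x ∈ B := fun x => Submodule.sub_projection_mem hAB x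
  have hker : ∀ b ∈ B, π b = 0 := fun b hb =>
    (Submodule.projection_apply_eq_zero_iff hAB).mpr hb
  have h1 : ∀ x, comm π f g x ∈ B := by
    intro x
    have e : comm π f g x = g (f x - π (f x)) - (f (g x) - π (f (g x))) := by
      have := LinearMap.congr_fun hfg x
      simp only [LinearMap.comp_apply] at this
      rw [comm_apply, map_sub, this]
      abel
    rw [e]
    exact Submodule.sub_mem _ (hgB ⟨_, hB _, rfl⟩) (hB _)
  have h2 : ∀ b ∈ B, comm π f g b = 0 := by
    intro b hb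
    rw [comm_apply, hker _ (hfB ⟨_, hgB ⟨b, hb, rfl⟩, rfl⟩), hker _ (hfB ⟨b, hb, rfl⟩), map_zero,
      sub_zero]
  apply fpTrace_eq_zero_of_pow_eq_zero (n := 2)
  ext x
  rw [pow_two, Module.End.mul_apply, h2 _ (h1 x), LinearMap.zero_apply]

/-- Abstract global vanishing. -/
theorem tres_eq_zero_of_finiteDimensional {A B : Submodule k V} {π f g : V →ₗ[k] V}
    (hπ : IsProj A π) (hfg : f ∘ₗ g = g ∘ₗ f) (hf : NearStable A f) (hg : NearStable A g)
    (hfB : B.map f ≤ B) (hgB : B.map g ≤ B)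
    [FiniteDimensional k ↥(A ⊓ B)] [FiniteDimensional k (V ⧸ (A ⊔ B))] : tres π f g = 0 := by
  set Z := A ⊓ B with hZ
  obtain ⟨Z', hZ'⟩ := Submodule.exists_isCompl Z
  set A₁ := A ⊓ Z' with hA₁
  have hA₁A : A₁ ≤ A := inf_le_left
  have hAA₁ : A ≤ A₁ ⊔ Z := by
    intro a ha
    have : a ∈ Z ⊔ Z' := by rw [hZ'.sup_eq_top]; exact Submodule.mem_top
    obtain ⟨z, hz, z', hz', rfl⟩ := Submodule.mem_sup.mp this
    have hz'A : z' ∈ A := by
      have : z' = (z + z') - z := by abel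
      rw [this]
      exact Submodule.sub_mem _ ha hz.1
    rw [add_comm]
    exact Submodule.add_mem _ (Submodule.mem_sup_left ⟨hz'A, hz'⟩) (Submodule.mem_sup_right hz)
  have hA₁B : A₁ ⊓ B = ⊥ := by
    rw [eq_bot_iff]
    intro x hx
    have h1 : x ∈ Z := ⟨hx.1.1, hx.2⟩
    have h2 : x ∈ Z' := hx.1.2
    have := hZ'.inf_eq_bot
    rw [← this]
    exact ⟨h1, h2⟩
  obtain ⟨C₀, hC₀⟩ := Submodule.exists_isCompl (A ⊔ B)
  have hC₀fin : FiniteDimensional k C₀ :=
    Module.Finite.equiv (Submodule.quotientEquivOfIsCompl (A ⊔ B) C₀ hC₀)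
  set A₂ := A₁ ⊔ C₀ with hA₂
  have hcompl : IsCompl A₂ B := by
    constructor
    · rw [disjoint_iff, eq_bot_iff]
      intro x hx
      obtain ⟨a₁, ha₁, c, hc, hx1⟩ := Submodule.mem_sup.mp hx.1
      have hcAB : c ∈ A ⊔ B := by
        have : c = x - a₁ := by rw [← hx1]; abel
        rw [this]
        exact Submodule.sub_mem _ (Submodule.mem_sup_right hx.2)
          (Submodule.mem_sup_left (hA₁A ha₁))
      have hc0 : c = 0 := by
        have : c ∈ (A ⊔ B) ⊓ C₀ := ⟨hcAB, hc⟩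
        rw [hC₀.inf_eq_bot] at this
        exact (Submodule.mem_bot k).mp this
      rw [hc0, add_zero] at hx1
      have : x ∈ A₁ ⊓ B := ⟨hx1 ▸ ha₁, hx.2⟩
      rw [hA₁B] at this
      exact this
    · rw [codisjoint_iff, eq_top_iff]
      intro v _
      have : v ∈ (A ⊔ B) ⊔ C₀ := by rw [hC₀.sup_eq_top]; exact Submodule.mem_top
      obtain ⟨ab, hab, c, hc, rfl⟩ := Submodule.mem_sup.mp this
      obtain ⟨a, ha, b, hb, rfl⟩ := Submodule.mem_sup.mp hab
      obtain ⟨a₁, ha₁, z, hz, rfl⟩ := Submodule.mem_sup.mp (hAA₁ ha)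
      have : a₁ + z + b + c = (a₁ + c) + (z + b) := by abel
      rw [this]
      exact Submodule.add_mem _
        (Submodule.mem_sup_left (Submodule.add_mem _ (Submodule.mem_sup_left ha₁)
          (Submodule.mem_sup_right hc)))
        (Submodule.mem_sup_right (Submodule.add_mem _ hz.2 hb))
  obtain ⟨π₁, hπ₁⟩ := exists_isProj A₁
  have hf₁ : NearStable A₁ f := hf.of_commensurable hA₁A hAA₁
  have hg₁ : NearStable A₁ g := hg.of_commensurable hA₁A hAA₁
  have hA₂le : A₁ ≤ A₂ := le_sup_left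
  have hA₂A₁ : A₂ ≤ A₁ ⊔ C₀ := le_rfl
  have hf₂ : NearStable A₂ f := hf₁.to_commensurable hA₂le hA₂A₁
  have hg₂ : NearStable A₂ g := hg₁.to_commensurable hA₂le hA₂A₁
  rw [tres_eq_of_commensurable hA₁A hAA₁ hπ hπ₁ hfg hf hg,
    ← tres_eq_of_commensurable hA₂le hA₂A₁ (isProj_projection hcompl) hπ₁ hfg hf₂ hg₂]
  exact tres_eq_zero_of_isCompl hcompl hfg hfB hgB

end Tate
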