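import Groth.Agent.Lib.Helper5.Tate.FPTrace

/-! Traces and restriction of scalars. -/

set_option autoImplicit false

namespace Tate

open LinearMap

variable (k F : Type*) [Field k] [Field F] [Algebra k F] [FiniteDimensional k F]

/-- The `k`-trace of an `F`-linear endomorphism is the trace of its `F`-trace. -/
theorem trace_restrictScalars_eq {W : Type*} [AddCommGroup W] [Module F W] [Module k W]
    [IsScalarTower k F W] [FiniteDimensional F W] (θ : W →ₗ[F] W) :
    LinearMap.trace k W (θ.restrictScalars k) = Algebra.trace k F (LinearMap.trace F W θ) := by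
  classical
  let b := Module.Free.chooseBasis k F
  let c := Module.Free.chooseBasis F W
  have hfin : FiniteDimensional k W := Module.Finite.trans F W
  rw [LinearMap.trace_eq_matrix_trace k (b.smulTower c), LinearMap.trace_eq_matrix_trace F c,
    Matrix.trace, Matrix.trace, map_sum, Fintype.sum_prod_type, Finset.sum_comm]
  refine Finset.sum_congr rfl fun j _ => ?_
  rw [Algebra.trace_eq_matrix_trace b, Matrix.trace]
  refine Finset.sum_congr rfl fun i _ => ?_
  simp only [Matrix.diag_apply, LinearMap.toMatrix_apply, Module.Basis.smulTower_repr,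
    Module.Basis.smulTower_apply, LinearMap.coe_restrictScalars, map_smul, Finsupp.smul_apply,
    smul_eq_mul, Algebra.leftMulMatrix_eq_repr_mul]
  rw [mul_comm]

end Tate

namespace Tate

open LinearMap

variable (k F : Type*) [Field k] [Field F] [Algebra k F] [FiniteDimensional k F]
variable {L : Type*} [AddCommGroup L] [Module F L] [Module k L] [IsScalarTower k F L]

lemma restrictScalars_pow (T : L →ₗ[F] L) (n : ℕ) :
    (T.restrictScalars k) ^ n = (T ^ n).restrictScalars k := by
  induction n with
  | zero => rfl
  | succ n ih =>
    rw [pow_succ, pow_succ, ih]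
    rfl

lemma IsCore.restrictScalars {T : L →ₗ[F] L} {W : Submodule F L} (hW : IsCore T W) :
    IsCore (T.restrictScalars k) (W.restrictScalars k) := by
  have := hW.fin
  refine ⟨?_, fun x hx => hW.inv x hx, ?_⟩
  · have h1 : FiniteDimensional k W := Module.Finite.trans F W
    exact Module.Finite.equiv
      ((Submodule.restrictScalarsEquiv k F L W).restrictScalars k).symm
  · obtain ⟨n, hn⟩ := hW.pow
    refine ⟨n, ?_⟩
    rw [restrictScalars_pow]
    rintro _ ⟨x, rfl⟩
    exact hn ⟨x, rfl⟩

/-- The `k`-trace of a finite-potent `F`-linear map is the trace of its `F`-trace. -/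
theorem fpTrace_restrictScalars (T : L →ₗ[F] L) (h : IsFP T) :
    fpTrace (T.restrictScalars k) = Algebra.trace k F (fpTrace T) := by
  obtain ⟨W, hW⟩ := h
  have hWk := IsCore.restrictScalars k F hW
  have := hW.fin
  rw [fpTrace_eq hW, fpTrace_eq hWk, ← trace_restrictScalars_eq k F]
  let e : ↥(W.restrictScalars k) ≃ₗ[k] ↥W :=
    (Submodule.restrictScalarsEquiv k F L W).restrictScalars k
  have : (T.restrict hW.inv).restrictScalars k = e.conj ((T.restrictScalars k).restrict hWk.inv) := by
    ext x
    rfl
  rw [this, LinearMap.trace_conj']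

end Tate
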