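import Groth.Agent.Lib.Helper5.Tate.Global
import Groth.Agent.Lib.Helper5.Tate.Scalars
import Groth.Prelude.Def_LocRes

/-! Tate's residue on Laurent series equals the coefficient of `X⁻¹` of `f g'`. -/

set_option autoImplicit false

namespace Tate.Laurent

open LaurentSeries HahnSeries LinearMap

variable {F : Type*} [Field F]

/-- Coefficients of a product of Laurent series with bounded-below supports. -/
theorem coeff_mul_eq_sum_Ico {u v : F⸨X⸩} {α β : ℤ} (hu : ∀ i < α, u.coeff i = 0)
    (hv : ∀ j < β, v.coeff j = 0) (m : ℤ) :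
    (u * v).coeff m = ∑ i ∈ Finset.Ico α (m - β + 1), u.coeff i * v.coeff (m - i) := by
  classical
  rw [HahnSeries.coeff_mul]
  let e : ℤ ↪ ℤ × ℤ := ⟨fun i => (i, m - i), fun i j h => by simpa using congrArg Prod.fst h⟩
  have hsub : Finset.antidiagonal u.isPWO_support v.isPWO_support m ⊆
      (Finset.Ico α (m - β + 1)).map e := by
    intro ij hij
    rw [Finset.mem_antidiagonal] at hij
    obtain ⟨h1, h2, h3⟩ := hij
    rw [Finset.mem_map]
    refine ⟨ij.1, ?_, ?_⟩
    · rw [Finset.mem_Ico]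
      have ha : α ≤ ij.1 := by
        by_contra hlt
        exact h1 (hu _ (not_le.mp hlt))
      have hb : β ≤ ij.2 := by
        by_contra hlt
        exact h2 (hv _ (not_le.mp hlt))
      omega
    · show (ij.1, m - ij.1) = ij
      ext
      · rfl
      · show m - ij.1 = ij.2
        omega
  rw [Finset.sum_subset hsub, Finset.sum_map]
  · rfl
  · intro ij hij hnot
    rw [Finset.mem_map] at hij
    obtain ⟨i, _, rfl⟩ := hij
    by_contra hne
    apply hnot
    rw [Finset.mem_antidiagonal]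
    refine ⟨?_, ?_, ?_⟩
    · intro h0
      apply hne
      have h0' : u.coeff i = 0 := h0
      show u.coeff i * v.coeff (m - i) = 0
      rw [h0', zero_mul]
    · intro h0
      apply hne
      have h0' : v.coeff (m - i) = 0 := h0
      show u.coeff i * v.coeff (m - i) = 0
      rw [h0', mul_zero]
    · show i + (m - i) = m
      omega

theorem coeff_mul_eq_zero_of_lt {u v : F⸨X⸩} {α β : ℤ} (hu : ∀ i < α, u.coeff i = 0)
    (hv : ∀ j < β, v.coeff j = 0) {m : ℤ} (hm : m < α + β) : (u * v).coeff m = 0 := by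
  rw [coeff_mul_eq_sum_Ico hu hv, Finset.Ico_eq_empty (by omega), Finset.sum_empty]

/-- Every Laurent series has support bounded below. -/
lemma exists_bound (u : F⸨X⸩) : ∃ a : ℕ, ∀ i : ℤ, i < -(a : ℤ) → u.coeff i = 0 := by
  refine ⟨(-u.order).toNat, fun i hi => HahnSeries.coeff_eq_zero_of_lt_order ?_⟩
  have := Int.self_le_toNat (-u.order)
  omega

variable (F)

/-- `L⁺ = F⟦X⟧` inside `F⸨X⸩`. -/
def Lplus : Submodule F F⸨X⸩ where
  carrier := {x | ∀ n : ℤ, n < 0 → x.coeff n = 0}
  zero_mem' := fun n _ => rfl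
  add_mem' := fun {x y} hx hy n hn => by rw [HahnSeries.coeff_add, hx n hn, hy n hn, add_zero]
  smul_mem' := fun c x hx n hn => by rw [HahnSeries.coeff_smul, hx n hn, smul_zero]

/-- Truncation `F⸨X⸩ → F⟦X⟧ ⊆ F⸨X⸩`. -/
noncomputable def trunc : F⸨X⸩ →ₗ[F] F⸨X⸩ where
  toFun x := ((PowerSeries.mk fun n : ℕ => x.coeff n : PowerSeries F) : F⸨X⸩)
  map_add' x y := by
    ext n
    simp only [PowerSeries.coeff_coe, HahnSeries.coeff_add, PowerSeries.coeff_mk]
    split_ifs <;> simp
  map_smul' c x := by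
    ext n
    simp only [PowerSeries.coeff_coe, HahnSeries.coeff_smul, PowerSeries.coeff_mk,
      RingHom.id_apply]
    split_ifs <;> simp

variable {F}

lemma trunc_coeff (x : F⸨X⸩) (n : ℤ) : (trunc F x).coeff n = if 0 ≤ n then x.coeff n else 0 := by
  show ((PowerSeries.mk fun n : ℕ => x.coeff n : PowerSeries F) : F⸨X⸩).coeff n = _
  rw [PowerSeries.coeff_coe]
  by_cases h : n < 0
  · rw [if_pos h, if_neg (by omega)]
  · rw [if_neg h, if_pos (by omega), PowerSeries.coeff_mk]
    congr 1
    omega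

lemma trunc_eq_self {x : F⸨X⸩} (hx : ∀ n : ℤ, n < 0 → x.coeff n = 0) : trunc F x = x := by
  ext n
  rw [trunc_coeff]
  split_ifs with h
  · rfl
  · exact (hx n (not_le.mp h)).symm

lemma isProj_trunc : IsProj (Lplus F) (trunc F) where
  map_mem x := fun n hn => by rw [trunc_coeff, if_neg (by omega)]
  map_id x hx := trunc_eq_self hx

/-- Multiplication by `f` as a linear endomorphism. -/
noncomputable def mulL (f : F⸨X⸩) : F⸨X⸩ →ₗ[F] F⸨X⸩ where
  toFun x := f * x
  map_add' x y := mul_add f x y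
  map_smul' c x := by
    rw [RingHom.id_apply, ← HahnSeries.C_mul_eq_smul, ← HahnSeries.C_mul_eq_smul]
    ring

@[simp] lemma mulL_apply (f x : F⸨X⸩) : mulL f x = f * x := rfl

lemma mulL_comm (f g : F⸨X⸩) : mulL f ∘ₗ mulL g = mulL g ∘ₗ mulL f := by
  ext x
  simp only [LinearMap.comp_apply, mulL_apply]
  ring_nf

/-- Laurent polynomials with exponents in `s`. -/
noncomputable def jmap (s : Finset ℤ) : (s → F) →ₗ[F] F⸨X⸩ :=
  ∑ m : s, (LinearMap.proj m : (s → F) →ₗ[F] F).smulRight (HahnSeries.single (m : ℤ) (1 : F))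

/-- Coefficients with index in `s`. -/
def qmap (s : Finset ℤ) : F⸨X⸩ →ₗ[F] (s → F) :=
  LinearMap.pi fun m => HahnSeries.coeff.linearMap (m : ℤ)

lemma qmap_apply (s : Finset ℤ) (x : F⸨X⸩) (m : s) : qmap s x m = x.coeff m := rfl

lemma jmap_coeff (s : Finset ℤ) (c : s → F) (n : ℤ) :
    (jmap s c).coeff n = if h : n ∈ s then c ⟨n, h⟩ else 0 := by
  classical
  simp only [jmap, LinearMap.coe_sum, Finset.sum_apply, LinearMap.smulRight_apply,
    LinearMap.proj_apply]
  rw [HahnSeries.coeff_sum]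
  simp only [HahnSeries.coeff_smul, smul_eq_mul]
  split_ifs with h
  · rw [Finset.sum_eq_single ⟨n, h⟩]
    · rw [HahnSeries.coeff_single_same, mul_one]
    · intro m _ hm
      rw [HahnSeries.coeff_single_of_ne, mul_zero]
      intro h'
      apply hm
      exact Subtype.ext h'.symm
    · intro h'; exact absurd (Finset.mem_univ _) h'
  · apply Finset.sum_eq_zero
    intro m _
    rw [HahnSeries.coeff_single_of_ne, mul_zero]
    intro h'
    apply h
    rw [h']
    exact m.2

lemma qmap_jmap (s : Finset ℤ) (c : s → F) : qmap s (jmap s c) = c := by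
  ext m
  rw [qmap_apply, jmap_coeff, dif_pos m.2]

lemma jmap_qmap_coeff (s : Finset ℤ) (x : F⸨X⸩) (n : ℤ) :
    (jmap s (qmap s x)).coeff n = if n ∈ s then x.coeff n else 0 := by
  rw [jmap_coeff]
  split_ifs <;> rfl

end Tate.Laurent
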