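import Groth.Agent.Lib.Helper5.Tate.Laurent

/-! Tate's residue on Laurent series: reduction to a finite trace. -/

set_option autoImplicit false

namespace Tate.Laurent

open LaurentSeries HahnSeries LinearMap

variable {F : Type*} [Field F]

lemma coeff_sub_trunc (u : F⸨X⸩) (n : ℤ) :
    (u - trunc F u).coeff n = if 0 ≤ n then 0 else u.coeff n := by
  rw [HahnSeries.coeff_sub, trunc_coeff]
  split_ifs <;> simp

lemma nearStable_mulL (f : F⸨X⸩) : NearStable (Lplus F) (mulL f) := by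
  obtain ⟨a, ha⟩ := exists_bound f
  set s := Finset.Ico (-(a : ℤ)) 0 with hs
  refine ⟨range (jmap (F := F) s), inferInstance, ?_⟩
  rintro _ ⟨x, hx, rfl⟩
  have hx' : ∀ n : ℤ, n < 0 → x.coeff n = 0 := hx
  rw [mulL_apply]
  have e : f * x = trunc F (f * x) + jmap s (qmap s (f * x)) := by
    ext n
    rw [HahnSeries.coeff_add, trunc_coeff, jmap_qmap_coeff]
    by_cases h0 : 0 ≤ n
    · rw [if_pos h0, if_neg (by rw [hs, Finset.mem_Ico]; omega), add_zero]
    · rw [if_neg h0, zero_add]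
      by_cases h1 : -(a : ℤ) ≤ n
      · rw [if_pos (by rw [hs, Finset.mem_Ico]; omega)]
      · rw [if_neg (by rw [hs, Finset.mem_Ico]; omega)]
        exact coeff_mul_eq_zero_of_lt ha hx' (by omega)
  rw [e]
  exact Submodule.add_mem _ (Submodule.mem_sup_left (isProj_trunc.map_mem _))
    (Submodule.mem_sup_right ⟨_, rfl⟩)

section main

variable (f g : F⸨X⸩)

/-- The operator `[π f, g]` on Laurent series. -/
noncomputable def Tfg : F⸨X⸩ →ₗ[F] F⸨X⸩ := comm (trunc F) (mulL f) (mulL g)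

lemma Tfg_apply (x : F⸨X⸩) : Tfg f g x = trunc F (f * (g * x)) - g * trunc F (f * x) := rfl

lemma Tfg_mem_E0 : Tfg f g ∈ E0 (Lplus F) :=
  comm_mem_E0 isProj_trunc (mulL_comm f g) (nearStable_mulL f) (nearStable_mulL g)

variable {f g} {a b : ℕ} (hf : ∀ i : ℤ, i < -(a : ℤ) → f.coeff i = 0)
  (hg : ∀ j : ℤ, j < -(b : ℤ) → g.coeff j = 0)

include hg in
lemma Tfg_coeff_eq_zero (x : F⸨X⸩) {m : ℤ} (hm : m < -(b : ℤ)) : (Tfg f g x).coeff m = 0 := by
  rw [Tfg_apply, HahnSeries.coeff_sub, trunc_coeff, if_neg (by omega), zero_sub, neg_eq_zero]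
  exact coeff_mul_eq_zero_of_lt hg (β := 0) (fun j hj => by rw [trunc_coeff, if_neg (by omega)])
    (by omega)

include hf hg in
lemma Tfg_eq_zero {x : F⸨X⸩} (hx : ∀ m : ℤ, m < (a : ℤ) + b → x.coeff m = 0) : Tfg f g x = 0 := by
  have h1 : ∀ m : ℤ, m < b → (f * x).coeff m = 0 := fun m hm =>
    coeff_mul_eq_zero_of_lt hf hx (by omega)
  have h2 : ∀ m : ℤ, m < a → (g * x).coeff m = 0 := fun m hm =>
    coeff_mul_eq_zero_of_lt hg hx (by omega)
  have h3 : ∀ m : ℤ, m < 0 → (f * (g * x)).coeff m = 0 := fun m hm =>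
    coeff_mul_eq_zero_of_lt hf h2 (by omega)
  rw [Tfg_apply, trunc_eq_self h3, trunc_eq_self (fun m hm => h1 m (by omega))]
  ring

/-- The window of exponents. -/
noncomputable def win (a b : ℕ) : Finset ℤ := Finset.Ico (-(b : ℤ)) ((a : ℤ) + b)

lemma jmap_single (s : Finset ℤ) (m : s) :
    jmap (F := F) s (Pi.single m 1) = HahnSeries.single (m : ℤ) 1 := by
  classical
  ext n
  rw [jmap_coeff]
  by_cases h : n = m
  · subst h
    rw [dif_pos m.2, HahnSeries.coeff_single_same]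
    simp
  · rw [HahnSeries.coeff_single_of_ne h]
    split_ifs with h'
    · rw [Pi.single_apply, if_neg]
      intro h''
      apply h
      rw [← h'']
    · rfl

include hf hg in
/-- Reduction of the finite-potent trace to a finite sum of diagonal coefficients. -/
theorem fpTrace_Tfg_eq_sum :
    fpTrace (Tfg f g) = ∑ n ∈ win a b, (Tfg f g (HahnSeries.single n 1)).coeff n := by
  classical
  set s := win a b with hs
  set P₀ : F⸨X⸩ →ₗ[F] F⸨X⸩ := jmap s ∘ₗ qmap s with hP₀
  have hT := Tfg_mem_E0 f g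
  have hP₀coeff : ∀ x n, (P₀ x).coeff n = if n ∈ s then x.coeff n else 0 := fun x n =>
    jmap_qmap_coeff s x n
  have hP₀ns : NearStable (Lplus F) P₀ := by
    apply NearStable.of_le
    rintro _ ⟨x, hx, rfl⟩
    intro n hn
    rw [hP₀coeff]
    split_ifs
    · exact hx n hn
    · rfl
  have hTP₀ : Tfg f g ∘ₗ P₀ ∈ E0 (Lplus F) := E0_comp_right hT hP₀ns
  have hsplit : Tfg f g = Tfg f g ∘ₗ P₀ + Tfg f g ∘ₗ (LinearMap.id - P₀) := by
    ext x
    simp only [LinearMap.add_apply, LinearMap.comp_apply, LinearMap.sub_apply, LinearMap.id_apply,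
      map_sub]
    abel
  have hR : Tfg f g ∘ₗ (LinearMap.id - P₀) ∈ E0 (Lplus F) := by
    have : Tfg f g ∘ₗ (LinearMap.id - P₀) = Tfg f g - Tfg f g ∘ₗ P₀ := by
      ext x
      simp only [LinearMap.comp_apply, LinearMap.sub_apply, LinearMap.id_apply, map_sub]
    rw [this]
    exact Submodule.sub_mem _ hT hTP₀
  have hR0 : fpTrace (Tfg f g ∘ₗ (LinearMap.id - P₀)) = 0 := by
    rw [fpTrace_comp_comm _ _ (isFP_of_mem_E0 hR)]
    apply fpTrace_eq_zero_of_pow_eq_zero (n := 2)
    ext x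
    rw [pow_two, Module.End.mul_apply, LinearMap.zero_apply]
    simp only [LinearMap.comp_apply, LinearMap.sub_apply, LinearMap.id_apply]
    set y := Tfg f g x with hy
    set z := y - P₀ y with hz
    have hzc : ∀ m : ℤ, m < (a : ℤ) + b → z.coeff m = 0 := by
      intro m hm
      rw [hz, HahnSeries.coeff_sub, hP₀coeff]
      by_cases hms : m ∈ s
      · rw [if_pos hms, sub_self]
      · rw [if_neg hms, sub_zero]
        apply Tfg_coeff_eq_zero hg
        rw [hs, win, Finset.mem_Ico] at hms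
        omega
    rw [Tfg_eq_zero hf hg hzc, map_zero, sub_zero]
  have h1 : fpTrace (Tfg f g) = fpTrace (Tfg f g ∘ₗ P₀) := by
    conv_lhs => rw [hsplit]
    rw [fpTrace_add_of_mem_E0 hTP₀ hR, hR0, add_zero]
  rw [h1]
  have h2 : Tfg f g ∘ₗ P₀ = (Tfg f g ∘ₗ jmap s) ∘ₗ qmap s := by
    rw [hP₀, LinearMap.comp_assoc]
  rw [h2, fpTrace_comp_comm _ _ (by rw [← h2]; exact isFP_of_mem_E0 hTP₀), fpTrace_eq_trace,
    LinearMap.trace_eq_matrix_trace F (Pi.basisFun F s), Matrix.trace]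
  rw [← Finset.sum_coe_sort s]
  refine Finset.sum_congr rfl fun m _ => ?_
  rw [Matrix.diag_apply, LinearMap.toMatrix_apply, Pi.basisFun_repr, Pi.basisFun_apply]
  simp only [LinearMap.comp_apply]
  rw [qmap_apply, jmap_single]

end main

end Tate.Laurent
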