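import Groth.Agent.Lib.Helper5.Tate.Laurent2

/-! Tate's residue on Laurent series: the diagonal computation. -/

set_option autoImplicit false

namespace Tate.Laurent

open LaurentSeries HahnSeries LinearMap

variable {F : Type*} [Field F]
variable {f g : F⸨X⸩} {a b : ℕ} (hf : ∀ i : ℤ, i < -(a : ℤ) → f.coeff i = 0)
  (hg : ∀ j : ℤ, j < -(b : ℤ) → g.coeff j = 0)

include hg in
lemma diag_coeff (n : ℤ) :
    (Tfg f g (HahnSeries.single n 1)).coeff n =
      (if 0 ≤ n then (g * f).coeff 0 else 0) -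
        ∑ i ∈ Finset.Ico (-(b : ℤ)) (n + 1), g.coeff i * f.coeff (-i) := by
  rw [Tfg_apply, HahnSeries.coeff_sub, trunc_coeff]
  congr 1
  · have : f * (g * HahnSeries.single n 1) = (g * f) * HahnSeries.single n 1 := by ring
    rw [this, HahnSeries.coeff_mul_single, sub_self, mul_one]
  · rw [coeff_mul_eq_sum_Ico hg (β := 0)
      (fun j hj => by rw [trunc_coeff, if_neg (by omega)]), sub_zero]
    refine Finset.sum_congr rfl fun i hi => ?_
    rw [Finset.mem_Ico] at hi
    rw [trunc_coeff, if_pos (by omega), HahnSeries.coeff_mul_single, mul_one]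
    congr 2
    ring

include hf hg in
lemma coeff_zero_eq_sum : (g * f).coeff 0 =
    ∑ i ∈ Finset.Ico (-(b : ℤ)) ((a : ℤ) + b + 1), g.coeff i * f.coeff (-i) := by
  rw [coeff_mul_eq_sum_Ico hg hf]
  have hsub : Finset.Ico (-(b : ℤ)) (0 - -(a : ℤ) + 1) ⊆ Finset.Ico (-(b : ℤ)) ((a : ℤ) + b + 1) :=
    Finset.Ico_subset_Ico le_rfl (by omega)
  rw [← Finset.sum_subset hsub]
  · refine Finset.sum_congr rfl fun i _ => ?_
    rw [zero_sub]
  · intro i hi hni
    rw [Finset.mem_Ico] at hi hni
    rw [hf (-i) (by omega), mul_zero]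

include hf hg in
/-- The trace of `[π f, g]` as an explicit finite sum. -/
theorem fpTrace_Tfg_eq :
    fpTrace (Tfg f g) =
      ∑ i ∈ Finset.Ico (-(b : ℤ)) ((a : ℤ) + b + 1), (i : F) * (g.coeff i * f.coeff (-i)) := by
  rw [fpTrace_Tfg_eq_sum hf hg]
  simp only [diag_coeff hg]
  rw [Finset.sum_sub_distrib]
  set h : ℤ → F := fun i => g.coeff i * f.coeff (-i) with hh
  set N : ℤ := (a : ℤ) + b with hN
  have hzero : ∀ i : ℤ, (a : ℤ) < i → h i = 0 := fun i hi => by
    rw [hh]; show g.coeff i * f.coeff (-i) = 0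
    rw [hf (-i) (by omega), mul_zero]
  -- first sum
  have h1 : ∑ n ∈ win a b, (if 0 ≤ n then (g * f).coeff 0 else 0) = (N : F) * (g * f).coeff 0 := by
    rw [win, ← Finset.sum_filter]
    have : (Finset.Ico (-(b : ℤ)) ((a : ℤ) + b)).filter (fun n => 0 ≤ n) = Finset.Ico 0 N := by
      ext n
      rw [Finset.mem_filter, Finset.mem_Ico, Finset.mem_Ico]
      omega
    rw [this, Finset.sum_const, Int.card_Ico, sub_zero, nsmul_eq_mul]
    congr 1
    rw [hN]
    have : ((a : ℤ) + b).toNat = a + b := by omega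
    rw [this]
    push_cast
    ring
  -- second (double) sum
  have h2 : ∑ n ∈ win a b, ∑ i ∈ Finset.Ico (-(b : ℤ)) (n + 1), h i =
      ∑ i ∈ Finset.Ico (-(b : ℤ)) (N + 1), ((N : F) - (i : F)) * h i := by
    rw [win, Finset.sum_comm' (s' := fun i => Finset.Ico i N) (t' := Finset.Ico (-(b : ℤ)) N)]
    · have hsub : Finset.Ico (-(b : ℤ)) N ⊆ Finset.Ico (-(b : ℤ)) (N + 1) :=
        Finset.Ico_subset_Ico le_rfl (by omega)
      rw [← Finset.sum_subset hsub]
      · refine Finset.sum_congr rfl fun i hi => ?_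
        rw [Finset.mem_Ico] at hi
        rw [Finset.sum_const, Int.card_Ico, nsmul_eq_mul]
        congr 1
        have : ((N - i).toNat : ℤ) = N - i := Int.toNat_of_nonneg (by omega)
        have h' : (((N - i).toNat : ℤ) : F) = ((N - i : ℤ) : F) := by rw [this]
        push_cast at h'
        exact h'
      · intro i hi hni
        rw [Finset.mem_Ico] at hi hni
        have : i = N := by omega
        rw [this, sub_self, zero_mul]
    · intro n i
      simp only [Finset.mem_Ico, hN]
      omega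
  rw [h1, h2, coeff_zero_eq_sum hf hg, Finset.mul_sum, ← Finset.sum_sub_distrib]
  refine Finset.sum_congr rfl fun i _ => ?_
  ring

end Tate.Laurent
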