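import Groth.Agent.Lib.Helper5.Tate.Adele

/-! Tate's residue on the adele space is the sum of the local residues. -/

set_option autoImplicit false

namespace Tate

lemma E0_sub_mem {k : Type*} [Field k] {V : Type*} [AddCommGroup V] [Module k V]
    {A : Submodule k V} {θ ρ : V →ₗ[k] V} (h1 : θ ∈ E0 A) (h2 : ρ ∈ E0 A) : θ - ρ ∈ E0 A :=
  Submodule.sub_mem _ h1 h2

end Tate

namespace FunFld

open Tate WithZero LinearMap
open scoped Classical

variable {k K : Type*} [Field k] [Field K] [Algebra k K]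

/-- The componentwise projection on adeles. -/
noncomputable def projA (π : Place k K → (K →ₗ[k] K)) (hπ : ∀ P, IsProj P.OSub (π P)) :
    adele k K →ₗ[k] adele k K where
  toFun a := ⟨fun P => π P ((a : Place k K → K) P), by
    show ∀ᶠ P : Place k K in Filter.cofinite, P.1 (π P ((a : Place k K → K) P)) ≤ 1
    exact Filter.Eventually.of_forall fun P => (hπ P).map_mem _⟩
  map_add' a b := by
    ext P
    show π P ((a : Place k K → K) P + (b : Place k K → K) P) = _
    rw [map_add]; rfl
  map_smul' c a := by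
    ext P
    show π P (c • (a : Place k K → K) P) = _
    rw [map_smul]; rfl

lemma projA_apply (π : Place k K → (K →ₗ[k] K)) (hπ : ∀ P, IsProj P.OSub (π P)) (a : adele k K)
    (P : Place k K) : (projA π hπ a : Place k K → K) P = π P ((a : Place k K → K) P) := rfl

lemma isProj_projA (π : Place k K → (K →ₗ[k] K)) (hπ : ∀ P, IsProj P.OSub (π P)) :
    IsProj (A0 k K) (projA π hπ) where
  map_mem a := mem_A0.mpr fun P => (hπ P).map_mem _
  map_id a ha := by
    ext P
    rw [projA_apply]
    exact (hπ P).map_id _ (mem_A0.mp ha P)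

/-- Evaluation at a place. -/
noncomputable def evA (P : Place k K) : adele k K →ₗ[k] K :=
  (LinearMap.proj P : (Place k K → K) →ₗ[k] K) ∘ₗ (adele k K).subtype

/-- Adele concentrated at a place. -/
noncomputable def sgA (P : Place k K) : K →ₗ[k] adele k K :=
  (LinearMap.single k (fun _ : Place k K => K) P).codRestrict (adele k K)
    (fun y => single_mem_adele P y)

lemma evA_apply (P : Place k K) (a : adele k K) : evA P a = (a : Place k K → K) P := rfl

lemma sgA_apply (P Q : Place k K) (y : K) :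
    (sgA P y : Place k K → K) Q = if Q = P then y else 0 := by
  show (Pi.single P y : Place k K → K) Q = _
  rw [Pi.single_apply]

section

variable (hK : IsFunctionField k K)
variable (π : Place k K → (K →ₗ[k] K)) (hπ : ∀ P, IsProj P.OSub (π P)) (f g : K)

lemma comm_projA_apply (a : adele k K) (Q : Place k K) :
    (comm (projA π hπ) (mulA hK f) (mulA hK g) a : Place k K → K) Q =
      comm (π Q) (mulK f) (mulK g) ((a : Place k K → K) Q) := rfl

include hπ in
/-- At a place where `f` and `g` are integral, the local commutator has square zero. -/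
lemma local_comm_sq_zero {Q : Place k K} (hf : Q.1 f ≤ 1) (hg : Q.1 g ≤ 1) (x : K) :
    comm (π Q) (mulK f) (mulK g) (comm (π Q) (mulK f) (mulK g) x) = 0 := by
  have hO : ∀ y : K, Q.1 y ≤ 1 → comm (π Q) (mulK f) (mulK g) y = 0 := by
    intro y hy
    have h1 : Q.1 (f * (g * y)) ≤ 1 := by
      rw [map_mul, map_mul]
      exact mul_le_one' hf (mul_le_one' hg hy)
    have h2 : Q.1 (f * y) ≤ 1 := by
      rw [map_mul]; exact mul_le_one' hf hy
    rw [comm_apply, mulK_apply, mulK_apply, mulK_apply, mulK_apply, (hπ Q).map_id _ h1,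
      (hπ Q).map_id _ h2]
    ring
  apply hO
  rw [comm_apply]
  refine (Q.1.map_sub _ _).trans (max_le ((hπ Q).map_mem _) ?_)
  rw [mulK_apply, map_mul]
  exact mul_le_one' hg ((hπ Q).map_mem _)

/-- Local-global decomposition of Tate's residue. -/
theorem tres_adele_eq_sum (S : Finset (Place k K))
    (hS : ∀ P, P ∉ S → P.1 f ≤ 1 ∧ P.1 g ≤ 1) :
    tres (projA π hπ) (mulA hK f) (mulA hK g) = ∑ P ∈ S, tres (π P) (mulK f) (mulK g) := by
  set T := comm (projA π hπ) (mulA hK f) (mulA hK g) with hT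
  have hTmem : T ∈ E0 (A0 k K) :=
    comm_mem_E0 (isProj_projA π hπ) (mulA_comm hK f g) (nearStable_mulA hK f) (nearStable_mulA hK g)
  have he : ∀ P, NearStable (A0 k K) (sgA P ∘ₗ evA P) := by
    intro P
    apply NearStable.of_le
    rintro _ ⟨a, ha, rfl⟩
    rw [mem_A0]
    intro Q
    rw [LinearMap.comp_apply, sgA_apply, evA_apply]
    split_ifs with h
    · rw [h]; exact mem_A0.mp ha P
    · rw [map_zero]; exact zero_le_one
  have hTe : ∀ P, T ∘ₗ (sgA P ∘ₗ evA P) ∈ E0 (A0 k K) := fun P => E0_comp_right hTmem (he P)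
  set R := T - ∑ P ∈ S, T ∘ₗ (sgA P ∘ₗ evA P) with hR
  have hsum_mem : ∑ P ∈ S, T ∘ₗ (sgA P ∘ₗ evA P) ∈ E0 (A0 k K) :=
    Submodule.sum_mem _ fun P _ => hTe P
  have hRmem : R ∈ E0 (A0 k K) := by
    rw [hR]
    exact E0_sub_mem hTmem hsum_mem
  have hRapply : ∀ (a : adele k K) (Q : Place k K), (R a : Place k K → K) Q =
      if Q ∈ S then 0 else comm (π Q) (mulK f) (mulK g) ((a : Place k K → K) Q) := by
    intro a Q
    have h1 : (R a : Place k K → K) Q = (T a : Place k K → K) Q -
        ∑ P ∈ S, ((T ∘ₗ (sgA P ∘ₗ evA P)) a : Place k K → K) Q := by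
      rw [hR, LinearMap.sub_apply, LinearMap.sum_apply]
      simp only [Submodule.coe_sub, Pi.sub_apply, Submodule.coe_sum, Finset.sum_apply]
    rw [h1]
    have h2 : ∀ P, ((T ∘ₗ (sgA P ∘ₗ evA P)) a : Place k K → K) Q =
        if Q = P then comm (π Q) (mulK f) (mulK g) ((a : Place k K → K) Q) else 0 := by
      intro P
      rw [LinearMap.comp_apply, LinearMap.comp_apply, hT, comm_projA_apply, sgA_apply, evA_apply]
      split_ifs with h
      · rw [h]
      · rw [map_zero]
    simp only [h2]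
    rw [Finset.sum_ite_eq S Q, hT, comm_projA_apply]
    split_ifs
    · rw [sub_self]
    · rw [sub_zero]
  have hR0 : fpTrace R = 0 := by
    apply fpTrace_eq_zero_of_pow_eq_zero (n := 2)
    ext a Q
    rw [pow_two, Module.End.mul_apply, hRapply, LinearMap.zero_apply]
    split_ifs with h
    · rfl
    · rw [hRapply, if_neg h]
      exact local_comm_sq_zero π hπ f g (hS Q h).1 (hS Q h).2 _
  have hdecomp : T = R + ∑ P ∈ S, T ∘ₗ (sgA P ∘ₗ evA P) := by rw [hR]; abel
  have h3 : ∀ P, fpTrace (T ∘ₗ (sgA P ∘ₗ evA P)) = tres (π P) (mulK f) (mulK g) := by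
    intro P
    have e1 : T ∘ₗ (sgA P ∘ₗ evA P) = (T ∘ₗ sgA P) ∘ₗ evA P := by rw [LinearMap.comp_assoc]
    rw [e1, fpTrace_comp_comm _ _ (by rw [← e1]; exact isFP_of_mem_E0 (hTe P)), tres]
    congr 1
    ext x
    rw [LinearMap.comp_apply, LinearMap.comp_apply, evA_apply, hT, comm_projA_apply, sgA_apply,
      if_pos rfl]
  rw [tres, ← hT]
  conv_lhs => rw [hdecomp]
  rw [fpTrace_add_of_mem_E0 hRmem hsum_mem, hR0, zero_add,
    fpTrace_sum_of_mem_E0 S _ (fun P _ => hTe P)]
  exact Finset.sum_congr rfl fun P _ => h3 P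

include hK hπ in
/-- The sum of Tate's local residues vanishes. -/
theorem sum_local_tres_eq_zero (S : Finset (Place k K))
    (hS : ∀ P, P ∉ S → P.1 f ≤ 1 ∧ P.1 g ≤ 1) :
    ∑ P ∈ S, tres (π P) (mulK f) (mulK g) = 0 := by
  rw [← tres_adele_eq_sum hK π hπ f g S hS]
  exact tres_adele_eq_zero hK (isProj_projA π hπ) f g

include hπ in
/-- At a place where `f` and `g` are integral, Tate's local residue vanishes. -/
theorem local_tres_eq_zero {Q : Place k K} (hf : Q.1 f ≤ 1) (hg : Q.1 g ≤ 1) :
    tres (π Q) (mulK f) (mulK g) = 0 := by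
  apply fpTrace_eq_zero_of_pow_eq_zero (n := 2)
  ext x
  rw [pow_two, Module.End.mul_apply, LinearMap.zero_apply]
  exact local_comm_sq_zero π hπ f g hf hg x

end

end FunFld
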