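import Groth.Agent.Lib.Helper5.Tate.Laurent4

/-! Tate's rule `res(gᵐ dg) = 0`, in every characteristic (helper5). -/

set_option autoImplicit false

namespace Tate

open LinearMap

variable {k : Type*} [Field k]
variable {V : Type*} [AddCommGroup V] [Module k V]

/-- `θ V ≺ A`. -/
def IsE1 (A : Submodule k V) (θ : V →ₗ[k] V) : Prop :=
  ∃ F : Submodule k V, FiniteDimensional k F ∧ LinearMap.range θ ≤ A ⊔ F

/-- `θ A ≺ 0`. -/
def IsE2 (A : Submodule k V) (θ : V →ₗ[k] V) : Prop := FiniteDimensional k (A.map θ)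

variable {A : Submodule k V}

lemma mem_E0_iff {θ : V →ₗ[k] V} : θ ∈ E0 A ↔ IsE1 A θ ∧ IsE2 A θ := Iff.rfl

lemma IsE1.of_isProj_comp {π : V →ₗ[k] V} (hπ : IsProj A π) (θ : V →ₗ[k] V) :
    IsE1 A (π ∘ₗ θ) := by
  refine ⟨⊥, inferInstance, ?_⟩
  rintro _ ⟨x, rfl⟩
  exact Submodule.mem_sup_left (hπ.map_mem _)

lemma IsE1.comp_right {θ : V →ₗ[k] V} (h : IsE1 A θ) (ρ : V →ₗ[k] V) : IsE1 A (θ ∘ₗ ρ) := by
  obtain ⟨F, hF, hr⟩ := h
  exact ⟨F, hF, (LinearMap.range_comp_le_range ρ θ).trans hr⟩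

lemma IsE2.comp_left {θ : V →ₗ[k] V} (h : IsE2 A θ) (ρ : V →ₗ[k] V) : IsE2 A (ρ ∘ₗ θ) := by
  have : FiniteDimensional k (A.map θ) := h
  show FiniteDimensional k (A.map (ρ ∘ₗ θ))
  rw [Submodule.map_comp]
  infer_instance

lemma IsE2.comp_right {θ g : V →ₗ[k] V} (h : IsE2 A θ) (hg : NearStable A g) :
    IsE2 A (θ ∘ₗ g) := by
  have : FiniteDimensional k (A.map θ) := h
  obtain ⟨G, hG, hAG⟩ := hg
  have : A.map (θ ∘ₗ g) ≤ A.map θ ⊔ G.map θ := by
    rw [Submodule.map_comp, ← Submodule.map_sup]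
    exact Submodule.map_mono hAG
  exact Submodule.finiteDimensional_of_le this

lemma IsE2.add {θ ρ : V →ₗ[k] V} (h₁ : IsE2 A θ) (h₂ : IsE2 A ρ) : IsE2 A (θ + ρ) := by
  have : FiniteDimensional k (A.map θ) := h₁
  have : FiniteDimensional k (A.map ρ) := h₂
  exact Submodule.finiteDimensional_of_le (map_add_le A θ ρ)

lemma IsE2.sub_isProj_comp {π g : V →ₗ[k] V} (hπ : IsProj A π) (hg : NearStable A g) :
    IsE2 A (g - π ∘ₗ g) := by
  obtain ⟨G, hG, hAG⟩ := hg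
  have : A.map (g - π ∘ₗ g) ≤ G.map (LinearMap.id - π) := by
    rintro _ ⟨a, ha, rfl⟩
    obtain ⟨a', ha', φ, hφ, hga⟩ := Submodule.mem_sup.mp (hAG ⟨a, ha, rfl⟩)
    refine ⟨φ, hφ, ?_⟩
    rw [LinearMap.sub_apply, LinearMap.sub_apply, LinearMap.comp_apply, LinearMap.id_apply,
      ← hga, map_add, hπ.map_id a' ha']
    abel
  exact Submodule.finiteDimensional_of_le this

/-- Tate's key lemma: the commutator of an element of `E₁` with an element of `E₂` has trace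
zero. -/
lemma fpTrace_commutator_eq_zero {a b : V →ₗ[k] V} (ha : IsE1 A a) (hb : IsE2 A b) :
    a ∘ₗ b ∈ E0 A ∧ b ∘ₗ a ∈ E0 A ∧ fpTrace (a ∘ₗ b - b ∘ₗ a) = 0 := by
  have hab : a ∘ₗ b ∈ E0 A := ⟨ha.comp_right b, hb.comp_left a⟩
  have hba : b ∘ₗ a ∈ E0 A := by
    obtain ⟨F, hF, hr⟩ := ha
    have : FiniteDimensional k (A.map b) := hb
    have hle : (A ⊔ F).map b ≤ A.map b ⊔ F.map b := by rw [Submodule.map_sup]
    have hfd : FiniteDimensional k ((A ⊔ F).map b) := Submodule.finiteDimensional_of_le hle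
    refine ⟨⟨(A ⊔ F).map b, hfd, ?_⟩, ?_⟩
    · rw [LinearMap.range_comp]
      exact le_sup_of_le_right (Submodule.map_mono hr)
    · have : A.map (b ∘ₗ a) ≤ (A ⊔ F).map b := by
        rw [Submodule.map_comp]
        exact Submodule.map_mono ((LinearMap.map_le_range).trans hr)
      exact Submodule.finiteDimensional_of_le this
  refine ⟨hab, hba, ?_⟩
  rw [fpTrace_sub_of_mem_E0 hab hba, fpTrace_comp_comm a b (isFP_of_mem_E0 hab), sub_self]

lemma End_identity (T P Q Pm : Module.End k V) (h : Pm * P = P * Pm) :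
    T * (P + Q) - (P + Q) * T = (T * Q - Q * T) - (P * (T - Pm) - (T - Pm) * P) := by
  have : (T - Pm) * P = T * P - P * Pm := by rw [sub_mul, h]
  rw [this]
  noncomm_ring

/-- **(R3)** `res(gᵐ dg) = 0` for every `m ≥ 0`, in every characteristic. -/
theorem tres_pow_self {π g : V →ₗ[k] V} (hπ : IsProj A π) (hg : NearStable A g) (m : ℕ) :
    tres π (g ^ m) g = 0 := by
  obtain ⟨P, hP⟩ : ∃ P : V →ₗ[k] V, P = π ∘ₗ g := ⟨_, rfl⟩
  obtain ⟨Q, hQ⟩ : ∃ Q : V →ₗ[k] V, Q = g - π ∘ₗ g := ⟨_, rfl⟩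
  have hP1 : IsE1 A P := hP ▸ IsE1.of_isProj_comp hπ g
  have hQ2 : IsE2 A Q := hQ ▸ IsE2.sub_isProj_comp hπ hg
  have hgPQ : g = P + Q := by rw [hP, hQ]; abel
  -- `π gᵐ - Pᵐ ∈ E₂`
  have hR : ∀ m : ℕ, IsE2 A (π ∘ₗ (g ^ m) - P ^ m) := by
    intro m
    induction m with
    | zero =>
      have : A.map (π ∘ₗ (g ^ 0) - P ^ 0) ≤ ⊥ := by
        rintro _ ⟨a, ha, rfl⟩
        rw [pow_zero, pow_zero, LinearMap.sub_apply, LinearMap.comp_apply,
          Module.End.one_apply, hπ.map_id a ha, sub_self]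
        exact Submodule.zero_mem _
      exact Submodule.finiteDimensional_of_le this
    | succ m ih =>
      have e : π ∘ₗ (g ^ (m + 1)) - P ^ (m + 1) =
          (π ∘ₗ (g ^ m) - P ^ m) ∘ₗ g + (P ^ m) ∘ₗ Q := by
        have e1 : π ∘ₗ (g ^ (m + 1)) = (π ∘ₗ (g ^ m)) ∘ₗ g := by
          rw [pow_succ, Module.End.mul_eq_comp, LinearMap.comp_assoc]
        have e2 : P ^ (m + 1) = (P ^ m) ∘ₗ P := by rw [pow_succ, Module.End.mul_eq_comp]
        have e3 : (P ^ m) ∘ₗ Q = (P ^ m) ∘ₗ g - (P ^ m) ∘ₗ P := by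
          rw [hQ, LinearMap.comp_sub, ← hP]
        rw [e1, e2, e3, LinearMap.sub_comp]
        abel
      rw [e]
      exact (ih.comp_right hg).add (hQ2.comp_left _)
  obtain ⟨T, hT⟩ : ∃ T : V →ₗ[k] V, T = π ∘ₗ (g ^ m) := ⟨_, rfl⟩
  have hT1 : IsE1 A T := hT ▸ IsE1.of_isProj_comp hπ _
  have hTP2 : IsE2 A (T - P ^ m) := hT ▸ hR m
  have h1 := fpTrace_commutator_eq_zero (A := A) (a := T) (b := Q) hT1 hQ2
  have h2 := fpTrace_commutator_eq_zero (A := A) (a := P) (b := T - P ^ m) hP1 hTP2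
  have hcomm : P ^ m * P = P * P ^ m := by rw [← pow_succ, ← pow_succ']
  have e : comm π (g ^ m) g = (T ∘ₗ Q - Q ∘ₗ T) - (P ∘ₗ (T - P ^ m) - (T - P ^ m) ∘ₗ P) := by
    have e0 : comm π (g ^ m) g = T * g - g * T := by
      rw [comm, hT, Module.End.mul_eq_comp, Module.End.mul_eq_comp, LinearMap.comp_assoc]
    rw [e0]
    conv_lhs => rw [hgPQ]
    exact End_identity T P Q (P ^ m) hcomm
  rw [tres, e, fpTrace_sub_of_mem_E0 (Submodule.sub_mem _ h1.1 h1.2.1)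
    (Submodule.sub_mem _ h2.1 h2.2.1), h1.2.2, h2.2.2, sub_self]

end Tate

namespace Tate.Laurent

open LaurentSeries HahnSeries LinearMap

variable {F : Type*} [Field F]

lemma mulL_one : mulL (1 : F⸨X⸩) = 1 := by
  ext x
  rw [mulL_apply, one_mul, Module.End.one_apply]

lemma mulL_mul (a b : F⸨X⸩) : mulL (a * b) = mulL a * mulL b := by
  ext x
  rw [mulL_apply, Module.End.mul_apply, mulL_apply, mulL_apply, mul_assoc]

lemma mulL_pow (h : F⸨X⸩) (m : ℕ) : mulL (h ^ m) = mulL h ^ m := by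
  induction m with
  | zero => rw [pow_zero, pow_zero, mulL_one]
  | succ m ih => rw [pow_succ, pow_succ, mulL_mul, ih]

/-- `res(hᵐ dh) = 0` for Laurent series, `m ≥ 0`, in every characteristic. -/
theorem res_pow_mul_D (h : F⸨X⸩) (m : ℕ) : LocRes.res F (h ^ m * LocRes.D F h) = 0 := by
  rw [← fpTrace_Tfg_eq_res, Tfg, mulL_pow]
  exact tres_pow_self isProj_trunc (nearStable_mulL h) m

/-- `res(h^(n-1) dh) = 0` for Laurent series and every integer `n ≠ 0`. -/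
theorem res_zpow_mul_D (h : F⸨X⸩) (n : ℤ) (hn : n ≠ 0) :
    LocRes.res F (h ^ (n - 1) * LocRes.D F h) = 0 := by
  rcases le_or_gt 0 (n - 1) with hpos | hneg
  · obtain ⟨m, hm⟩ := Int.eq_ofNat_of_zero_le hpos
    rw [hm, zpow_natCast]
    exact res_pow_mul_D h m
  · rcases eq_or_ne h 0 with rfl | h0
    · rw [map_zero, mul_zero, map_zero]
    · have hD : LocRes.D F h⁻¹ = -(h⁻¹ ^ 2 * LocRes.D F h) := by
        have h1 : LocRes.D F (h⁻¹ * h) = 0 := by
          rw [inv_mul_cancel₀ h0, Derivation.map_one_eq_zero]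
        rw [Derivation.leibniz, smul_eq_mul, smul_eq_mul] at h1
        have h2 : h * LocRes.D F h⁻¹ = -(h⁻¹ * LocRes.D F h) := by
          linear_combination h1
        have h3 : LocRes.D F h⁻¹ = h⁻¹ * (h * LocRes.D F h⁻¹) := by
          rw [← mul_assoc, inv_mul_cancel₀ h0, one_mul]
        rw [h3, h2]
        ring
      obtain ⟨m, hm⟩ := Int.eq_ofNat_of_zero_le (show 0 ≤ -n - 1 by omega)
      have e : h ^ (n - 1) * LocRes.D F h = -(h⁻¹ ^ m * LocRes.D F h⁻¹) := by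
        rw [hD, ← zpow_natCast, ← hm, inv_zpow', inv_pow, ← zpow_natCast h 2]
        have : h ^ (n - 1) = h ^ (-(-n - 1)) * (h ^ ((2 : ℕ) : ℤ))⁻¹ := by
          rw [← zpow_neg, ← zpow_add₀ h0]
          congr 1
          push_cast
          ring
        rw [this]
        ring
      rw [e, map_neg, res_pow_mul_D, neg_zero]

end Tate.Laurent
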