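import Groth.Agent.Lib.Helper5.Tate.E0

/-! Tate's abstract residue `Tr([π f, g])`. -/

set_option autoImplicit false

namespace Tate

open LinearMap

variable {k : Type*} [Field k]
variable {V : Type*} [AddCommGroup V] [Module k V]
variable {V' : Type*} [AddCommGroup V'] [Module k V']

/-- The commutator `[π f, g] = π f g - g π f`. -/
def comm (π f g : V →ₗ[k] V) : V →ₗ[k] V := π ∘ₗ f ∘ₗ g - g ∘ₗ π ∘ₗ f

lemma comm_apply (π f g : V →ₗ[k] V) (x : V) : comm π f g x = π (f (g x)) - g (π (f x)) := rfl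

/-- Tate's residue of `f dg` with respect to the projection `π`. -/
noncomputable def tres (π f g : V →ₗ[k] V) : k := fpTrace (comm π f g)

lemma NearStable.of_commensurable {A A' : Submodule k V} (hle : A' ≤ A) {F₀ : Submodule k V}
    [FiniteDimensional k F₀] (hA : A ≤ A' ⊔ F₀) {f : V →ₗ[k] V} (hf : NearStable A f) :
    NearStable A' f := by
  obtain ⟨F, hF, h⟩ := hf
  refine ⟨F₀ ⊔ F, inferInstance, ?_⟩
  refine (Submodule.map_mono hle).trans (h.trans ?_)
  rw [← sup_assoc]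
  exact sup_le_sup_right hA _

lemma comm_mem_E0 {A : Submodule k V} {π f g : V →ₗ[k] V} (hπ : IsProj A π)
    (hfg : f ∘ₗ g = g ∘ₗ f) (hf : NearStable A f) (hg : NearStable A g) :
    comm π f g ∈ E0 A := by
  obtain ⟨F, hF, hfA⟩ := hf
  obtain ⟨G, hG, hgA⟩ := hg
  refine ⟨⟨G, hG, ?_⟩, ?_⟩
  · rintro _ ⟨x, rfl⟩
    rw [comm_apply]
    refine Submodule.sub_mem _ (Submodule.mem_sup_left (hπ.map_mem _)) ?_
    exact hgA ⟨π (f x), hπ.map_mem _, rfl⟩
  · have hle : A.map (comm π f g) ≤ G.map (π - LinearMap.id) ⊔ F.map (π ∘ₗ g) ⊔ F.map (g ∘ₗ π) := by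
      rintro _ ⟨a, ha, rfl⟩
      obtain ⟨a', ha', φ, hφ, hfa⟩ := Submodule.mem_sup.mp (hfA ⟨a, ha, rfl⟩)
      obtain ⟨a'', ha'', ψ, hψ, hga'⟩ := Submodule.mem_sup.mp (hgA ⟨a', ha', rfl⟩)
      have h1 : f (g a) = g (f a) := LinearMap.congr_fun hfg a
      have e : comm π f g a = (π - (LinearMap.id : V →ₗ[k] V)) ψ + (π ∘ₗ g) φ - (g ∘ₗ π) φ := by
        rw [comm_apply, h1, ← hfa, map_add, map_add, map_add, map_add, hπ.map_id a' ha',
          ← hga', map_add, hπ.map_id a'' ha'']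
        simp only [LinearMap.sub_apply, LinearMap.id_apply, LinearMap.comp_apply]
        abel
      rw [e]
      refine Submodule.sub_mem _ (Submodule.add_mem _ ?_ ?_) ?_
      · exact Submodule.mem_sup_left (Submodule.mem_sup_left ⟨ψ, hψ, rfl⟩)
      · exact Submodule.mem_sup_left (Submodule.mem_sup_right ⟨φ, hφ, rfl⟩)
      · exact Submodule.mem_sup_right ⟨φ, hφ, rfl⟩
    exact Submodule.finiteDimensional_of_le hle

/-- The residue does not depend on the projection, nor on `A` up to commensurability. -/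
theorem tres_eq_of_commensurable {A A' : Submodule k V} (hle : A' ≤ A) {F₀ : Submodule k V}
    [FiniteDimensional k F₀] (hA : A ≤ A' ⊔ F₀) {π π' f g : V →ₗ[k] V} (hπ : IsProj A π)
    (hπ' : IsProj A' π') (hfg : f ∘ₗ g = g ∘ₗ f) (hf : NearStable A f) (hg : NearStable A g) :
    tres π f g = tres π' f g := by
  have h1 : comm π f g ∈ E0 A := comm_mem_E0 hπ hfg hf hg
  have h2 : comm π' f g ∈ E0 A :=
    E0_le_of_commensurable hle hA
      (comm_mem_E0 hπ' hfg (hf.of_commensurable hle hA) (hg.of_commensurable hle hA))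
  set δ := π - π' with hδ
  have hδA' : ∀ a ∈ A', δ a = 0 := by
    intro a ha
    rw [hδ, LinearMap.sub_apply, hπ.map_id a (hle ha), hπ'.map_id a ha, sub_self]
  have hδmem : δ ∈ E0 A := by
    refine ⟨⟨⊥, inferInstance, ?_⟩, ?_⟩
    · rintro _ ⟨x, rfl⟩
      rw [hδ, LinearMap.sub_apply]
      exact Submodule.mem_sup_left (Submodule.sub_mem _ (hπ.map_mem x) (hle (hπ'.map_mem x)))
    · have : A.map δ ≤ F₀.map δ := by
        rintro _ ⟨a, ha, rfl⟩
        obtain ⟨a', ha', φ, hφ, rfl⟩ := Submodule.mem_sup.mp (hA ha)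
        rw [map_add, hδA' a' ha', zero_add]
        exact ⟨φ, hφ, rfl⟩
      exact Submodule.finiteDimensional_of_le this
  have hδf : δ ∘ₗ f ∈ E0 A := E0_comp_right hδmem hf
  have hδfg : (δ ∘ₗ f) ∘ₗ g ∈ E0 A := E0_comp_right hδf hg
  have hgδf : g ∘ₗ (δ ∘ₗ f) ∈ E0 A := E0_comp_left hδf hg
  have hcyc : fpTrace ((δ ∘ₗ f) ∘ₗ g) = fpTrace (g ∘ₗ (δ ∘ₗ f)) :=
    fpTrace_comp_comm _ _ (isFP_of_mem_E0 hδfg)
  have hdiff : comm π f g - comm π' f g = (δ ∘ₗ f) ∘ₗ g - g ∘ₗ (δ ∘ₗ f) := by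
    ext x
    simp only [comm_apply, LinearMap.sub_apply, LinearMap.comp_apply, hδ, map_sub]
    abel
  have := fpTrace_sub_of_mem_E0 h1 h2
  rw [hdiff, fpTrace_sub_of_mem_E0 hδfg hgδf, hcyc, sub_self] at this
  rw [tres, tres]
  exact (sub_eq_zero.mp this.symm)

/-- Independence of the projection. -/
theorem tres_eq_of_isProj {A : Submodule k V} {π π' f g : V →ₗ[k] V} (hπ : IsProj A π)
    (hπ' : IsProj A π') (hfg : f ∘ₗ g = g ∘ₗ f) (hf : NearStable A f) (hg : NearStable A g) :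
    tres π f g = tres π' f g :=
  tres_eq_of_commensurable (F₀ := ⊥) le_rfl (by simp) hπ hπ' hfg hf hg

/-- Transfer along an injective map with "dense" image: if `φ` intertwines the data and
`1 - π` maps into the range of `φ`, the residues agree. -/
theorem tres_transfer {A : Submodule k V} (φ : V' →ₗ[k] V) (hφ : Function.Injective φ)
    {π f g : V →ₗ[k] V} {π' f' g' : V' →ₗ[k] V'}
    (hπ : IsProj A π) (hfg : f ∘ₗ g = g ∘ₗ f) (hf : NearStable A f) (hg : NearStable A g)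
    (hπφ : φ ∘ₗ π' = π ∘ₗ φ) (hfφ : φ ∘ₗ f' = f ∘ₗ φ) (hgφ : φ ∘ₗ g' = g ∘ₗ φ)
    (hdense : ∀ x, x - π x ∈ range φ) :
    tres π' f' g' = tres π f g := by
  have hT : ∀ x, comm π f g x ∈ range φ := by
    intro x
    have e : comm π f g x = g (f x - π (f x)) - (f (g x) - π (f (g x))) := by
      have := LinearMap.congr_fun hfg x
      simp only [LinearMap.comp_apply] at this
      rw [comm_apply, map_sub, this]
      abel
    rw [e]
    refine Submodule.sub_mem _ ?_ (hdense _)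
    obtain ⟨y, hy⟩ := hdense (f x)
    rw [← hy]
    exact ⟨g' y, LinearMap.congr_fun hgφ y⟩
  let T₁ : V →ₗ[k] V' :=
    (LinearEquiv.ofInjective φ hφ).symm.toLinearMap ∘ₗ (comm π f g).codRestrict (range φ) hT
  have hφT₁ : φ ∘ₗ T₁ = comm π f g := by
    ext x
    simp only [T₁, LinearMap.comp_apply, LinearEquiv.coe_coe]
    have := LinearEquiv.apply_symm_apply (LinearEquiv.ofInjective φ hφ)
      ((comm π f g).codRestrict (range φ) hT x)
    have h2 := congrArg Subtype.val this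
    rw [LinearEquiv.ofInjective_apply] at h2
    exact h2
  have hT₁φ : T₁ ∘ₗ φ = comm π' f' g' := by
    apply LinearMap.ext
    intro y
    apply hφ
    have h1 : φ (T₁ (φ y)) = comm π f g (φ y) := LinearMap.congr_fun hφT₁ (φ y)
    rw [LinearMap.comp_apply, h1, comm_apply, comm_apply, map_sub]
    have a1 : ∀ z, φ (π' z) = π (φ z) := fun z => LinearMap.congr_fun hπφ z
    have a2 : ∀ z, φ (f' z) = f (φ z) := fun z => LinearMap.congr_fun hfφ z
    have a3 : ∀ z, φ (g' z) = g (φ z) := fun z => LinearMap.congr_fun hgφ z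
    rw [a1, a2, a3, a3, a1, a2]
  have hFP : IsFP (φ ∘ₗ T₁) := by
    rw [hφT₁]; exact isFP_of_mem_E0 (comm_mem_E0 hπ hfg hf hg)
  rw [tres, tres, ← hφT₁, ← hT₁φ]
  exact (fpTrace_comp_comm φ T₁ hFP).symm

end Tate
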