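import Groth.Agent.Lib.Helper5.Tate.Expansion2
import Groth.Agent.Lib.Helper5.LocRes.Integral

/-! The residue theorem for function fields, through Laurent expansions. -/

set_option autoImplicit false

namespace FunFld

open Tate LaurentSeries

universe u v w

variable {k : Type u} {K : Type v} [Field k] [Field K] [Algebra k K]

theorem residue_theorem (hK : IsFunctionField k K)
    (F : Place k K → Type w) [∀ P, Field (F P)] [∀ P, Algebra k (F P)]
    [∀ P, FiniteDimensional k (F P)]
    (φ : ∀ P, K →ₐ[k] LaurentSeries (F P)) (hφ : ∀ P, LocRes.IsExpansionAt P.1 (φ P))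
    (u v : K) :
    (Function.support fun P => LocRes.locRes (φ P) u v) ⊆
        {P : Place k K | ¬ P.1 u ≤ 1} ∪ {P : Place k K | ¬ P.1 v ≤ 1} ∧
      (Function.support fun P => LocRes.locRes (φ P) u v).Finite ∧
      ∑ᶠ P, LocRes.locRes (φ P) u v = 0 := by
  classical
  choose π hπ using fun P : Place k K => exists_isProj P.OSub
  have hloc : ∀ P, LocRes.locRes (φ P) u v = tres (π P) (mulK u) (mulK v) := fun P =>
    (local_tres_eq_locRes (hφ P) (hπ P) u v).symm
  have hfin : ({P : Place k K | ¬ P.1 u ≤ 1} ∪ {P : Place k K | ¬ P.1 v ≤ 1}).Finite :=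
    (finite_not_le_one hK u).union (finite_not_le_one hK v)
  have hsub : (Function.support fun P => LocRes.locRes (φ P) u v) ⊆
      {P : Place k K | ¬ P.1 u ≤ 1} ∪ {P : Place k K | ¬ P.1 v ≤ 1} := by
    intro P hP
    by_contra hnot
    apply hP
    rw [Set.mem_union, not_or] at hnot
    have h1 : P.1 u ≤ 1 := not_not.mp hnot.1
    have h2 : P.1 v ≤ 1 := not_not.mp hnot.2
    show LocRes.locRes (φ P) u v = 0
    rw [hloc]
    exact local_tres_eq_zero π hπ u v h1 h2
  refine ⟨hsub, hfin.subset hsub, ?_⟩
  have hsub' : (Function.support fun P => LocRes.locRes (φ P) u v) ⊆ ↑hfin.toFinset := by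
    rw [Set.Finite.coe_toFinset]; exact hsub
  rw [finsum_eq_sum_of_support_subset _ hsub']
  simp only [hloc]
  apply sum_local_tres_eq_zero hK π hπ u v
  intro P hP
  rw [Set.Finite.mem_toFinset, Set.mem_union, not_or] at hP
  exact ⟨not_not.mp hP.1, not_not.mp hP.2⟩

end FunFld
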