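import Groth.Agent.Lib.Helper5.Tate.ResidueThm
import Groth.Agent.Lib.Helper5.FunFld.Weil2

/-! The Weil differential attached to `u dv` through local residues, and its divisor. -/

set_option autoImplicit false

namespace FunFld

open Tate Tate.Laurent LaurentSeries HahnSeries WithZero LinearMap

universe u v w

variable {k : Type u} {K : Type v} [Field k] [Field K] [Algebra k K]

section local_

variable {F : Type w} [Field F] [Algebra k F]

/-- The local residue functional `y ↦ Res(y u dv)`. -/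
noncomputable def rP (φ : K →ₐ[k] F⸨X⸩) (u v : K) : K →ₗ[k] k :=
  (Algebra.trace k F) ∘ₗ ((LocRes.res F).restrictScalars k) ∘ₗ
    mulLk k (LocRes.D F (φ v)) ∘ₗ expLin φ ∘ₗ mulK u

lemma rP_apply (φ : K →ₐ[k] F⸨X⸩) (u v y : K) : rP φ u v y = LocRes.locRes φ (y * u) v := by
  show Algebra.trace k F (LocRes.res F (LocRes.D F (φ v) * φ (u * y))) = _
  rw [LocRes.locRes, LocRes.resExp, mul_comm u y, mul_comm (LocRes.D F (φ v))]

lemma res_eq_zero_of_v_le_one {g : F⸨X⸩} (h : Valued.v g ≤ (1 : ℤᵐ⁰)) : LocRes.res F g = 0 := by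
  rw [LocRes.res_apply]
  exact (mem_Lplus_iff g).mpr h (-1) (by norm_num)

variable {P : Place k K} {φ : K →ₐ[k] F⸨X⸩} (hφ : LocRes.IsExpansionAt P.1 φ)

include hφ in
lemma v_expansion_mul (y u v : K) :
    Valued.v (φ (y * u) * LocRes.D F (φ v)) = P.1 y * LocRes.vDiff φ u v := by
  rw [LocRes.vDiff, map_mul, map_mul, map_mul, map_mul, hφ.1, hφ.1, mul_assoc]

include hφ in
lemma locRes_eq_zero_of_le (y u v : K) (h : P.1 y * LocRes.vDiff φ u v ≤ 1) :
    LocRes.locRes φ (y * u) v = 0 := by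
  rw [LocRes.locRes, LocRes.resExp, res_eq_zero_of_v_le_one, map_zero]
  rw [v_expansion_mul hφ]
  exact h

include hφ in
/-- Nondegeneracy of the local residue pairing. -/
lemma exists_locRes_ne_zero
    (hnd : ∀ l : F, l ≠ 0 → ∃ c : F, Algebra.trace k F (c * l) ≠ 0) (u v : K)
    (h0 : LocRes.vDiff φ u v ≠ 0) :
    ∃ y : K, P.1 y * LocRes.vDiff φ u v ≤ exp (1 : ℤ) ∧ LocRes.locRes φ (y * u) v ≠ 0 := by
  obtain ⟨m, hm⟩ : ∃ m : ℤ, LocRes.vDiff φ u v = exp m := ⟨_, (exp_log h0).symm⟩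
  obtain ⟨y₀, hy₀⟩ := P.exists_v_eq (1 - m)
  set g := φ (y₀ * u) * LocRes.D F (φ v) with hg
  have hgv : Valued.v g = exp (1 : ℤ) := by
    rw [hg, v_expansion_mul hφ, hy₀, hm, ← exp_add]
    congr 1
    ring
  have hgc : ∀ n : ℤ, n < -1 → g.coeff n = 0 := by
    have : Valued.v g ≤ exp (-(-1 : ℤ)) := by rw [hgv]; simp
    exact fun n hn => LaurentSeries.coeff_zero_of_lt_valuation F this hn
  have hl : g.coeff (-1) ≠ 0 := by
    intro h
    have : Valued.v g ≤ (1 : ℤᵐ⁰) := by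
      rw [← mem_Lplus_iff]
      intro n hn
      by_cases h1 : n = -1
      · rw [h1, h]
      · exact hgc n (by omega)
    rw [hgv] at this
    have h' : ((1 : ℤ)) ≤ 0 := by
      rw [← exp_zero, exp_le_exp] at this
      exact this
    omega
  obtain ⟨c, hc⟩ := hnd _ hl
  obtain ⟨y', hy'1, hy'2⟩ := hφ.2.1 c
  refine ⟨y' * y₀, ?_, ?_⟩
  · rw [map_mul, mul_assoc]
    have : P.1 y₀ * LocRes.vDiff φ u v = exp (1 : ℤ) := by
      rw [← hgv, hg, v_expansion_mul hφ]
    rw [this]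
    calc P.1 y' * exp (1 : ℤ) ≤ 1 * exp (1 : ℤ) := mul_le_mul_left hy'1 _
      _ = exp (1 : ℤ) := one_mul _
  · rw [LocRes.locRes, LocRes.resExp]
    have e : φ (y' * y₀ * u) * LocRes.D F (φ v) = φ y' * g := by
      rw [hg, mul_assoc y', map_mul φ y', mul_assoc]
    rw [e, LocRes.res_apply]
    have hy'c : ∀ n : ℤ, n < 0 → (φ y').coeff n = 0 :=
      (mem_Lplus_iff (φ y')).mpr (by rw [hφ.1]; exact hy'1)
    rw [coeff_mul_eq_sum_Ico hy'c hgc]
    have : Finset.Ico (0 : ℤ) (-1 - -1 + 1) = {0} := by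
      ext n
      rw [Finset.mem_Ico, Finset.mem_singleton]
      omega
    rw [this, Finset.sum_singleton, hy'2, sub_zero]
    exact hc

end local_

end FunFld
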