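import Groth.Agent.Lib.Helper5.Tate.WeilDiff

/-! The Weil differential attached to `u dv` through local residues: global part. -/

set_option autoImplicit false

namespace FunFld

open Tate Tate.Laurent LaurentSeries HahnSeries WithZero LinearMap
open scoped Classical

universe u v w

variable {k : Type u} {K : Type v} [Field k] [Field K] [Algebra k K]

lemma v_D_le_one {F : Type w} [Field F] {g : F⸨X⸩} (h : Valued.v g ≤ (1 : ℤᵐ⁰)) :
    Valued.v (LocRes.D F g) ≤ (1 : ℤᵐ⁰) := by
  obtain ⟨G, rfl⟩ := (LaurentSeries.val_le_one_iff_eq_coe F g).1 h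
  rw [LocRes.D_coe]
  exact (LaurentSeries.val_le_one_iff_eq_coe F _).2 ⟨_, rfl⟩

section

variable (hK : IsFunctionField k K)
  (F : Place k K → Type w) [∀ P, Field (F P)] [∀ P, Algebra k (F P)]
  [∀ P, FiniteDimensional k (F P)]
  (φ : ∀ P, K →ₐ[k] LaurentSeries (F P)) (hφ : ∀ P, LocRes.IsExpansionAt P.1 (φ P))
  (u v : K)

include hφ in
lemma vDiff_le_one {P : Place k K} (hu : P.1 u ≤ 1) (hv : P.1 v ≤ 1) :
    LocRes.vDiff (φ P) u v ≤ 1 := by
  rw [LocRes.vDiff, map_mul, (hφ P).1]
  have : Valued.v (LocRes.D (F P) (φ P v)) ≤ (1 : ℤᵐ⁰) := v_D_le_one (by rw [(hφ P).1]; exact hv)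
  exact mul_le_one' hu this

include hK hφ in
lemma finite_support_rP (a : adele k K) :
    (Function.support fun P => rP (φ P) u v ((a : Place k K → K) P)).Finite := by
  have h1 : {P : Place k K | ¬ P.1 ((a : Place k K → K) P) ≤ 1}.Finite :=
    Filter.eventually_cofinite.mp a.2
  refine ((h1.union (finite_not_le_one hK u)).union (finite_not_le_one hK v)).subset ?_
  intro P hP
  by_contra hnot
  apply hP
  simp only [Set.mem_union, Set.mem_setOf_eq, not_or, not_not] at hnot
  obtain ⟨⟨ha, hu⟩, hv⟩ := hnot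
  show rP (φ P) u v _ = 0
  rw [rP_apply]
  apply locRes_eq_zero_of_le (hφ P)
  exact mul_le_one' ha (vDiff_le_one F φ hφ u v hu hv)

/-- The functional `a ↦ ∑_P Res_P(a_P u dv)`. -/
noncomputable def omegaDiff : Module.Dual k (adele k K) where
  toFun a := ∑ᶠ P, rP (φ P) u v ((a : Place k K → K) P)
  map_add' a b := by
    rw [← finsum_add_distrib (finite_support_rP hK F φ hφ u v a)
      (finite_support_rP hK F φ hφ u v b)]
    refine finsum_congr fun P => ?_
    rw [← map_add]; rfl
  map_smul' c a := by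
    rw [RingHom.id_apply, smul_finsum' c (finite_support_rP hK F φ hφ u v a)]
    refine finsum_congr fun P => ?_
    rw [← map_smul]; rfl

lemma omegaDiff_apply (a : adele k K) :
    omegaDiff hK F φ hφ u v a = ∑ᶠ P, LocRes.locRes (φ P) ((a : Place k K → K) P * u) v := by
  show ∑ᶠ P, rP (φ P) u v ((a : Place k K → K) P) = _
  exact finsum_congr fun P => rP_apply _ _ _ _

lemma omegaDiff_diag (x : K) : omegaDiff hK F φ hφ u v (diagA hK x) = 0 := by
  rw [omegaDiff_apply]
  exact (residue_theorem hK F φ hφ (x * u) v).2.2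

lemma omegaDiff_conc (P : Place k K) (a : adele k K)
    (ha : ∀ Q, Q ≠ P → (a : Place k K → K) Q = 0) :
    omegaDiff hK F φ hφ u v a = LocRes.locRes (φ P) ((a : Place k K → K) P * u) v := by
  rw [omegaDiff_apply]
  apply finsum_eq_single
  intro Q hQ
  rw [ha Q hQ, zero_mul]
  show Algebra.trace k (F Q) (LocRes.resExp (φ Q) 0 v) = 0
  rw [LocRes.resExp, map_zero, zero_mul, map_zero, map_zero]

end

end FunFld
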